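import Mathlib
import Cfsg.Agent.PLocal.Timmesfeld
import Cfsg.Agent.SolvableStructure.HallConverse
set_option linter.all false

-- part: H281/PGV/Basic
section
set_option autoImplicit false
set_option linter.unusedSectionVars false

/-! # P(G,V): basic lemmas about fixed points of representations over `F_p` -/

open scoped commutatorElement

namespace Cfsg.Agent.H281.PGV

universe u v

variable {p : ℕ} {G : Type u} {V : Type v} [Group G] [AddCommGroup V] [Module (ZMod p) V]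
variable (ρ : Representation (ZMod p) G V)

/-- the fixed points of a subgroup -/
def fx (B : Subgroup G) : Submodule (ZMod p) V where
  carrier := {v | ∀ b ∈ B, ρ b v = v}
  add_mem' := fun {x y} hx hy b hb => by rw [map_add, hx b hb, hy b hb]
  zero_mem' := fun b _ => map_zero _
  smul_mem' := fun c x hx b hb => by rw [map_smul, hx b hb]

theorem mem_fx {B : Subgroup G} {v : V} : v ∈ fx ρ B ↔ ∀ b ∈ B, ρ b v = v := Iff.rfl

theorem fx_anti {A B : Subgroup G} (h : A ≤ B) : fx ρ B ≤ fx ρ A := fun _ hv b hb => hv b (h hb)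

theorem mul_ap (a b : G) (v : V) : ρ (a * b) v = ρ a (ρ b v) := by
  rw [map_mul]; rfl

theorem one_ap (v : V) : ρ 1 v = v := by rw [map_one]; rfl

theorem inv_ap_ap (a : G) (v : V) : ρ a⁻¹ (ρ a v) = v := by
  rw [← mul_ap, inv_mul_cancel, one_ap]

theorem ap_inv_ap (a : G) (v : V) : ρ a (ρ a⁻¹ v) = v := by
  rw [← mul_ap, mul_inv_cancel, one_ap]

theorem ap_inj (a : G) {v w : V} (h : ρ a v = ρ a w) : v = w := by
  rw [← inv_ap_ap ρ a v, h, inv_ap_ap]

/-- the stabiliser of a vector -/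
def stab (v : V) : Subgroup G where
  carrier := {g | ρ g v = v}
  mul_mem' := fun {a b} ha hb => by
    change ρ (a * b) v = v
    change ρ a v = v at ha
    change ρ b v = v at hb
    rw [mul_ap, hb, ha]
  one_mem' := one_ap ρ v
  inv_mem' := fun {a} ha => by
    change ρ a⁻¹ v = v
    change ρ a v = v at ha
    conv_lhs => rw [← ha]
    exact inv_ap_ap ρ a v

theorem mem_stab {v : V} {g : G} : g ∈ stab ρ v ↔ ρ g v = v := Iff.rfl

theorem fx_sup (B B' : Subgroup G) : fx ρ (B ⊔ B') = fx ρ B ⊓ fx ρ B' := by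
  apply le_antisymm
  · exact le_inf (fx_anti ρ le_sup_left) (fx_anti ρ le_sup_right)
  · intro v hv
    have h : B ⊔ B' ≤ stab ρ v := sup_le (fun b hb => hv.1 b hb) (fun b hb => hv.2 b hb)
    exact fun b hb => h hb

/-- a perfect group acting "commutatively" on a vector fixes it -/
theorem perfect_fix {K : Subgroup G} (hK : ⁅K, K⁆ = K) {v : V}
    (h : ∀ x ∈ K, ∀ y ∈ K, ρ x (ρ y v) = ρ y (ρ x v)) : ∀ x ∈ K, ρ x v = v := by
  have h1 : ⁅K, K⁆ ≤ stab ρ v := by
    rw [Subgroup.commutator_le]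
    intro x hx y hy
    rw [mem_stab, commutatorElement_def, mul_ap, mul_ap, mul_ap, h x⁻¹ (inv_mem hx) y⁻¹ (inv_mem hy),
      ap_inv_ap, ap_inv_ap]
  intro x hx
  rw [hK] at h1
  exact h1 hx

/-- quadratic action of a perfect group is trivial -/
theorem perfect_quad {K : Subgroup G} (hK : ⁅K, K⁆ = K) {v : V}
    (h : ∀ x ∈ K, ∀ y ∈ K, ρ x (ρ y v - v) = ρ y v - v) : ∀ x ∈ K, ρ x v = v := by
  apply perfect_fix ρ hK
  intro x hx y hy
  have h1 := h x hx y hy
  have h2 := h y hy x hx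
  rw [map_sub, sub_eq_iff_eq_add] at h1 h2
  rw [h1, h2]; abel

section finite

variable [Finite V]

theorem card_sup_mul [Fact p.Prime] (Y Y' : Submodule (ZMod p) V) :
    Nat.card ↥(Y ⊔ Y') * Nat.card ↥(Y ⊓ Y') = Nat.card Y * Nat.card Y' := by
  have : Module.Finite (ZMod p) V := Module.Finite.of_finite
  have h : ∀ Z : Submodule (ZMod p) V, Nat.card Z = p ^ Module.finrank (ZMod p) Z := by
    intro Z
    have := Module.natCard_eq_pow_finrank (K := ZMod p) (V := Z)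
    rwa [Nat.card_zmod] at this
  rw [h, h, h, h, ← pow_add, ← pow_add, Submodule.finrank_sup_add_finrank_inf_eq]

theorem card_submodule_dvd [Fact p.Prime] (Z : Submodule (ZMod p) V) (hZ : Z ≠ ⊥) :
    p ∣ Nat.card Z := by
  have : Module.Finite (ZMod p) V := Module.Finite.of_finite
  have h := Module.natCard_eq_pow_finrank (K := ZMod p) (V := Z)
  rw [Nat.card_zmod] at h
  rw [h]
  apply dvd_pow_self
  intro h0
  exact hZ (Submodule.finrank_eq_zero.1 h0)

/-- a `p`-group has a nonzero fixed vector on a nonzero quotient -/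
theorem exists_fix_mod [Fact p.Prime] [Finite G] {C : Subgroup G} (hC : IsPGroup p C)
    (W : Submodule (ZMod p) V) (hW : ∀ c ∈ C, ∀ w ∈ W, ρ c w ∈ W) (hne : W ≠ ⊤) :
    ∃ v, v ∉ W ∧ ∀ c ∈ C, ρ c v - v ∈ W := by
  classical
  have hfq : Finite (V ⧸ W) := Finite.of_surjective _ W.mkQ_surjective
  let act : MulAction C (V ⧸ W) :=
    { smul := fun c => W.mapQ W (ρ c.1) (fun w hw => hW c.1 c.2 w hw)
      one_smul := by
        intro b
        obtain ⟨v, rfl⟩ := W.mkQ_surjective b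
        change W.mapQ W (ρ 1) _ (W.mkQ v) = _
        simp
      mul_smul := by
        intro a c b
        obtain ⟨v, rfl⟩ := W.mkQ_surjective b
        change W.mapQ W (ρ (a.1 * c.1)) _ (W.mkQ v) = W.mapQ W (ρ a.1) _ (W.mapQ W (ρ c.1) _ (W.mkQ v))
        simp }
  have hsm : ∀ (c : C) (v : V), c • (W.mkQ v) = W.mkQ (ρ c.1 v) := fun c v => rfl
  have hmod := hC.card_modEq_card_fixedPoints (V ⧸ W)
  have hp : p ∣ Nat.card (V ⧸ W) := by
    have : Module.Finite (ZMod p) V := Module.Finite.of_finite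
    have h := Module.natCard_eq_pow_finrank (K := ZMod p) (V := V ⧸ W)
    rw [Nat.card_zmod] at h
    rw [h]
    apply dvd_pow_self
    intro h0
    have hs : Subsingleton (V ⧸ W) := Module.finrank_zero_iff.1 h0
    exact hne (Submodule.Quotient.subsingleton_iff.1 hs)
  have hfix : p ∣ Nat.card (MulAction.fixedPoints C (V ⧸ W)) :=
    (Nat.modEq_zero_iff_dvd).1 (hmod.symm.trans ((Nat.modEq_zero_iff_dvd).2 hp))
  have h0 : (0 : V ⧸ W) ∈ MulAction.fixedPoints C (V ⧸ W) := by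
    intro c
    have := hsm c 0
    rwa [map_zero, map_zero, map_zero] at this
  obtain ⟨b, hb⟩ : ∃ b : MulAction.fixedPoints C (V ⧸ W), b.1 ≠ 0 := by
    by_contra hcon
    push Not at hcon
    have h1 : Nat.card (MulAction.fixedPoints C (V ⧸ W)) = 1 := by
      rw [Nat.card_eq_one_iff_unique]
      refine ⟨⟨fun a b => Subtype.ext ((hcon a).trans (hcon b).symm)⟩, ⟨⟨0, h0⟩⟩⟩
    rw [h1] at hfix
    exact (Fact.out : p.Prime).one_lt.ne' (Nat.dvd_one.1 hfix)
  obtain ⟨v, hv⟩ := W.mkQ_surjective b.1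
  refine ⟨v, ?_, ?_⟩
  · intro hvW
    apply hb
    rw [← hv]
    exact (Submodule.Quotient.mk_eq_zero W).2 hvW
  · intro c hc
    have h1 := b.2 ⟨c, hc⟩
    rw [← hv, hsm] at h1
    exact (Submodule.Quotient.eq W).1 h1

/-- Thompson's `A × B` lemma for a perfect group. -/
theorem perfect_AxB [Fact p.Prime] [Finite G] {C K : Subgroup G} (hC : IsPGroup p C) (hK : ⁅K, K⁆ = K)
    (hCK : ∀ c ∈ C, ∀ x ∈ K, c * x = x * c) (h : ∀ v ∈ fx ρ C, ∀ x ∈ K, ρ x v = v) :
    ∀ v, ∀ x ∈ K, ρ x v = v := by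
  by_contra hcon
  have hne : fx ρ K ≠ ⊤ := by
    intro h1
    apply hcon
    intro v x hx
    have : v ∈ fx ρ K := h1 ▸ Submodule.mem_top
    exact this x hx
  have hinv : ∀ c ∈ C, ∀ w ∈ fx ρ K, ρ c w ∈ fx ρ K := by
    intro c hc w hw x hx
    rw [← mul_ap, ← hCK c hc x hx, mul_ap, hw x hx]
  obtain ⟨v, hv, hv2⟩ := exists_fix_mod ρ hC (fx ρ K) hinv hne
  apply hv
  -- `(x - 1) v` is fixed by `C`
  have h1 : ∀ x ∈ K, ρ x v - v ∈ fx ρ C := by
    intro x hx c hc
    have h2 := hv2 c hc x hx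
    -- ρ x (ρ c v - v) = ρ c v - v
    rw [map_sub, ← mul_ap, ← hCK c hc x hx, mul_ap] at h2
    rw [map_sub]
    -- h2 : ρ c (ρ x v) - ρ x v = ρ c v - v
    have h3 : ρ c (ρ x v) = ρ x v + (ρ c v - v) := by rw [← h2]; abel
    rw [h3]; abel
  exact perfect_quad ρ hK (fun x hx y hy => h _ (h1 y hy) x hx)

/-- a `p`-group acting on `V` with `V = [V, A] + C_V(A)` acts trivially -/
theorem trivial_of_comm [Fact p.Prime] [Finite G] {A : Subgroup G} (hA : IsPGroup p A)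
    (h : Submodule.span (ZMod p) {w : V | ∃ a ∈ A, ∃ v, w = ρ a v - v} ⊔ fx ρ A = ⊤) :
    fx ρ A = ⊤ := by
  classical
  by_contra hne
  -- a maximal proper invariant submodule over `fx ρ A`
  let 𝒮 : Set (Submodule (ZMod p) V) := {H | H ≠ ⊤ ∧ fx ρ A ≤ H ∧ ∀ a ∈ A, ∀ w ∈ H, ρ a w ∈ H}
  have hfin : 𝒮.Finite := Set.toFinite _
  have hnon : 𝒮.Nonempty := ⟨fx ρ A, hne, le_refl _, fun a ha w hw => by rw [hw a ha]; exact hw⟩
  obtain ⟨H, hH⟩ := hfin.exists_maximal hnon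
  obtain ⟨⟨hH1, hH2, hH3⟩, hmax⟩ := hH
  obtain ⟨v, hv, hv2⟩ := exists_fix_mod ρ hA H hH3 hH1
  have h1 : H ⊔ Submodule.span (ZMod p) {v} = ⊤ := by
    by_contra hcon
    have hmem : H ⊔ Submodule.span (ZMod p) {v} ∈ 𝒮 := by
      refine ⟨hcon, hH2.trans le_sup_left, ?_⟩
      intro a ha w hw
      obtain ⟨y, hy, z, hz, rfl⟩ := Submodule.mem_sup.1 hw
      obtain ⟨c, rfl⟩ := Submodule.mem_span_singleton.1 hz
      rw [map_add, map_smul]
      have : ρ a y + c • ρ a v = (ρ a y + c • (ρ a v - v)) + c • v := by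
        rw [smul_sub]; abel
      rw [this]
      apply Submodule.add_mem_sup
      · exact H.add_mem (hH3 a ha y hy) (H.smul_mem _ (hv2 a ha))
      · exact Submodule.smul_mem _ _ (Submodule.mem_span_singleton_self v)
    have := hmax hmem le_sup_left
    exact hv (this (Submodule.mem_sup_right (Submodule.mem_span_singleton_self v)))
  apply hH1
  rw [eq_top_iff, ← h]
  apply sup_le _ hH2
  rw [Submodule.span_le]
  rintro w ⟨a, ha, x, rfl⟩
  have hx : x ∈ H ⊔ Submodule.span (ZMod p) {v} := h1 ▸ Submodule.mem_top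
  obtain ⟨y, hy, z, hz, rfl⟩ := Submodule.mem_sup.1 hx
  obtain ⟨c, rfl⟩ := Submodule.mem_span_singleton.1 hz
  rw [map_add, map_smul]
  have : ρ a y + c • ρ a v - (y + c • v) = (ρ a y - y) + c • (ρ a v - v) := by
    rw [smul_sub]; abel
  rw [this]
  exact H.add_mem (H.sub_mem (hH3 a ha y hy) hy) (H.smul_mem _ (hv2 a ha))

end finite

end Cfsg.Agent.H281.PGV
end

-- part: H281/PGV/Timm
section
set_option autoImplicit false
set_option linter.unusedSectionVars false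

/-! # P(G,V): Timmesfeld replacement for representations over `F_p` -/

namespace Cfsg.Agent.H281.PGV

universe u v

variable {p : ℕ} {G : Type u} {V : Type v} [Group G] [AddCommGroup V] [Module (ZMod p) V]
variable (ρ : Representation (ZMod p) G V)

/-- the maximality condition `P(G,V)` -/
def Best (A : Subgroup G) : Prop :=
  ∀ B : Subgroup G, B ≤ A → Nat.card B * Nat.card (fx ρ B) ≤ Nat.card A * Nat.card (fx ρ A)

/-- the elements of `A` centralising `[w, A]`, `w ∈ W` -/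
def qq (A : Subgroup G) (W : Set V) : Subgroup G where
  carrier := {b | b ∈ A ∧ ∀ w ∈ W, ∀ a ∈ A, ρ b (ρ a w - w) = ρ a w - w}
  mul_mem' := by
    rintro b c ⟨hb, hb'⟩ ⟨hc, hc'⟩
    refine ⟨mul_mem hb hc, fun w hw a ha => ?_⟩
    rw [mul_ap, hc' w hw a ha, hb' w hw a ha]
  one_mem' := ⟨one_mem _, fun w _ a _ => one_ap ρ _⟩
  inv_mem' := by
    rintro b ⟨hb, hb'⟩
    refine ⟨inv_mem hb, fun w hw a ha => ?_⟩
    conv_lhs => rw [← hb' w hw a ha]
    exact inv_ap_ap ρ _ _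

theorem mem_qq {A : Subgroup G} {W : Set V} {b : G} :
    b ∈ qq ρ A W ↔ b ∈ A ∧ ∀ w ∈ W, ∀ a ∈ A, ρ b (ρ a w - w) = ρ a w - w := Iff.rfl

theorem qq_le (A : Subgroup G) (W : Set V) : qq ρ A W ≤ A := fun _ h => h.1

/-- `[w, A]` for `w ∈ W` -/
def br (A : Subgroup G) (W : Set V) : Submodule (ZMod p) V :=
  Submodule.span (ZMod p) {x : V | ∃ w ∈ W, ∃ a ∈ A, x = ρ a w - w}

theorem br_le_fx (A : Subgroup G) (W : Set V) : br ρ A W ≤ fx ρ (qq ρ A W) := by
  rw [br, Submodule.span_le]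
  rintro x ⟨w, hw, a, ha, rfl⟩ b hb
  exact hb.2 w hw a ha

variable [Finite G] [Finite V]

theorem card_single [Fact p.Prime] {A : Subgroup G} (hA : ∀ a ∈ A, ∀ b ∈ A, a * b = b * a) (v : V) :
    Nat.card A * Nat.card (fx ρ A) ≤
      Nat.card (qq ρ A {v}) * Nat.card ↥(br ρ A {v} ⊔ fx ρ A) := by
  classical
  have : Fintype A := Fintype.ofFinite A
  set N := fx ρ A with hN
  let θ : A → V ⧸ N := fun a => N.mkQ (ρ a.1 v - v)
  -- fibres
  have hfib : ∀ a b : A, θ a = θ b → a.1⁻¹ * b.1 ∈ qq ρ A {v} := by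
    intro a b hab
    have h1 : (ρ a.1 v - v) - (ρ b.1 v - v) ∈ N := (Submodule.Quotient.eq N).1 hab
    have h2 : ρ a.1 v - ρ b.1 v ∈ N := by
      have : (ρ a.1 v - v) - (ρ b.1 v - v) = ρ a.1 v - ρ b.1 v := by abel
      rwa [this] at h1
    refine ⟨mul_mem (inv_mem a.2) b.2, ?_⟩
    rintro w hw c hc
    rw [Set.mem_singleton_iff] at hw
    subst hw
    -- t = a⁻¹ b, t w = w - n
    set t := a.1⁻¹ * b.1 with ht
    have htA : t ∈ A := mul_mem (inv_mem a.2) b.2
    have h3 : ρ t w = w - ρ a.1⁻¹ (ρ a.1 w - ρ b.1 w) := by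
      rw [map_sub, inv_ap_ap, ← mul_ap]; abel
    have h4 : ρ a.1⁻¹ (ρ a.1 w - ρ b.1 w) = ρ a.1 w - ρ b.1 w := h2 _ (inv_mem a.2)
    rw [h4] at h3
    rw [map_sub, ← mul_ap, hA t htA c hc, mul_ap, h3, map_sub, h2 c hc]
    abel
  have h1 : Fintype.card A ≤ Nat.card (qq ρ A {v}) * (Finset.univ.image θ).card := by
    rw [← Finset.card_univ]
    apply Finset.card_le_mul_card_image
    intro y hy
    obtain ⟨a₀, _, ha₀⟩ := Finset.mem_image.1 hy
    have : Fintype (qq ρ A {v}) := Fintype.ofFinite _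
    rw [Nat.card_eq_fintype_card, ← Finset.card_univ]
    apply Finset.card_le_card_of_injOn
      (fun a => if h : θ a₀ = θ a then (⟨a₀.1⁻¹ * a.1, hfib a₀ a h⟩ : qq ρ A {v}) else 1)
    · intro a _; exact Finset.mem_coe.2 (Finset.mem_univ _)
    · intro a ha b hb hab
      have ha' : θ a₀ = θ a := by
        rw [Finset.mem_coe, Finset.mem_filter] at ha; rw [ha₀, ha.2]
      have hb' : θ a₀ = θ b := by
        rw [Finset.mem_coe, Finset.mem_filter] at hb; rw [ha₀, hb.2]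
      simp only [dif_pos ha', dif_pos hb', Subtype.mk.injEq, mul_right_inj] at hab
      exact Subtype.ext hab
  have h2 : (Finset.univ.image θ).card ≤ Nat.card ((br ρ A {v} ⊔ N).map N.mkQ) := by
    have : Finite (V ⧸ N) := Finite.of_surjective _ N.mkQ_surjective
    have : Fintype ((br ρ A {v} ⊔ N).map N.mkQ) := Fintype.ofFinite _
    have h3 : (↑(Finset.univ.image θ) : Set (V ⧸ N)) ⊆ ((br ρ A {v} ⊔ N).map N.mkQ : Set (V ⧸ N)) := by
      intro y hy
      rw [Finset.mem_coe] at hy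
      obtain ⟨a, _, ha⟩ := Finset.mem_image.1 hy
      rw [← ha]
      exact Submodule.mem_map_of_mem (Submodule.mem_sup_left
        (Submodule.subset_span ⟨v, rfl, a.1, a.2, rfl⟩))
    have h4 := Set.ncard_le_ncard h3 (Set.toFinite _)
    rw [Set.ncard_coe_finset] at h4
    exact h4
  have h3 : Nat.card ↥(br ρ A {v} ⊔ N) = Nat.card N * Nat.card ((br ρ A {v} ⊔ N).map N.mkQ) := by
    have e1 := Submodule.card_eq_card_quotient_mul_card (N.submoduleOf (br ρ A {v} ⊔ N))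
    have e2 : Nat.card (N.submoduleOf (br ρ A {v} ⊔ N)) = Nat.card N :=
      Nat.card_congr (Submodule.submoduleOfEquivOfLe le_sup_right).toEquiv
    have e3 : Nat.card (↥(br ρ A {v} ⊔ N) ⧸ N.submoduleOf (br ρ A {v} ⊔ N)) =
        Nat.card ((br ρ A {v} ⊔ N).map N.mkQ) := by
      have hk : LinearMap.ker (N.mkQ.domRestrict (br ρ A {v} ⊔ N)) = N.submoduleOf (br ρ A {v} ⊔ N) := by
        ext x
        rw [LinearMap.mem_ker, LinearMap.domRestrict_apply, Submodule.mkQ_apply,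
          Submodule.Quotient.mk_eq_zero]
        rfl
      have hr : LinearMap.range (N.mkQ.domRestrict (br ρ A {v} ⊔ N)) = (br ρ A {v} ⊔ N).map N.mkQ := by
        rw [LinearMap.domRestrict, LinearMap.range_comp, Submodule.range_subtype]
      rw [← hk, ← hr]
      exact Nat.card_congr (LinearMap.quotKerEquivRange _).toEquiv
    rw [e1, e2, e3]
  rw [Nat.card_eq_fintype_card (α := A), h3]
  calc Fintype.card A * Nat.card N ≤ Nat.card (qq ρ A {v}) * (Finset.univ.image θ).card * Nat.card N :=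
        Nat.mul_le_mul_right _ h1
    _ ≤ Nat.card (qq ρ A {v}) * Nat.card ((br ρ A {v} ⊔ N).map N.mkQ) * Nat.card N :=
        Nat.mul_le_mul_right _ (Nat.mul_le_mul_left _ h2)
    _ = _ := by ring

theorem card_mono {Y Z : Submodule (ZMod p) V} (h : Y ≤ Z) : Nat.card Y ≤ Nat.card Z :=
  Nat.card_le_card_of_injective (Submodule.inclusion h) (Submodule.inclusion_injective h)

theorem eq_of_le_of_card {Y Z : Submodule (ZMod p) V} (h : Y ≤ Z) (hc : Nat.card Z ≤ Nat.card Y) :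
    Y = Z := by
  apply SetLike.coe_injective
  exact Set.eq_of_subset_of_ncard_le h hc (Set.toFinite _)

/-- good subgroups of `A` -/
def Good (A B : Subgroup G) : Prop :=
  B ≤ A ∧ Nat.card B * Nat.card (fx ρ B) = Nat.card A * Nat.card (fx ρ A)

theorem good_inf [Fact p.Prime] {A B B' : Subgroup G} (hP : Best ρ A) (hB : Good ρ A B)
    (hB' : Good ρ A B') : Good ρ A (B ⊓ B') ∧ fx ρ (B ⊓ B') = fx ρ B ⊔ fx ρ B' := by
  have hle : fx ρ B ⊔ fx ρ B' ≤ fx ρ (B ⊓ B') :=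
    sup_le (fx_anti ρ inf_le_left) (fx_anti ρ inf_le_right)
  have h1 := PLocal.Timmesfeld.card_mul_card_le (B₁ := B) (B₂ := B') le_sup_left le_sup_right
  have h2 := card_sup_mul (fx ρ B) (fx ρ B')
  rw [← fx_sup] at h2
  have h3 := hP (B ⊔ B') (sup_le hB.1 hB'.1)
  set F := Nat.card A * Nat.card (fx ρ A) with hF
  have hFpos : 0 < F := Nat.mul_pos Nat.card_pos Nat.card_pos
  have h4 : F * F ≤ (Nat.card (B ⊓ B' : Subgroup G) * Nat.card ↥(fx ρ B ⊔ fx ρ B')) * F := by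
    calc F * F = (Nat.card B * Nat.card B') * (Nat.card (fx ρ B) * Nat.card (fx ρ B')) := by
          have e1 : F = Nat.card B * Nat.card (fx ρ B) := hB.2.symm
          have e2 : F = Nat.card B' * Nat.card (fx ρ B') := hB'.2.symm
          calc F * F = (Nat.card B * Nat.card (fx ρ B)) * (Nat.card B' * Nat.card (fx ρ B')) := by
                rw [← e1, ← e2]
            _ = _ := by ring
      _ ≤ (Nat.card (B ⊓ B' : Subgroup G) * Nat.card (B ⊔ B' : Subgroup G)) *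
          (Nat.card ↥(fx ρ B ⊔ fx ρ B') * Nat.card (fx ρ (B ⊔ B'))) := by
          rw [h2]; exact Nat.mul_le_mul_right _ h1
      _ = (Nat.card (B ⊓ B' : Subgroup G) * Nat.card ↥(fx ρ B ⊔ fx ρ B')) *
          (Nat.card (B ⊔ B' : Subgroup G) * Nat.card (fx ρ (B ⊔ B'))) := by ring
      _ ≤ _ := Nat.mul_le_mul_left _ h3
  have h5 : F ≤ Nat.card (B ⊓ B' : Subgroup G) * Nat.card ↥(fx ρ B ⊔ fx ρ B') :=
    Nat.le_of_mul_le_mul_right h4 hFpos
  have h6 : Nat.card ↥(fx ρ B ⊔ fx ρ B') ≤ Nat.card (fx ρ (B ⊓ B')) :=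
    card_mono hle
  have h7 := hP (B ⊓ B') (inf_le_left.trans hB.1)
  have h8 : Nat.card (B ⊓ B' : Subgroup G) * Nat.card ↥(fx ρ B ⊔ fx ρ B') ≤
      Nat.card (B ⊓ B' : Subgroup G) * Nat.card (fx ρ (B ⊓ B')) := Nat.mul_le_mul_left _ h6
  refine ⟨⟨inf_le_left.trans hB.1, le_antisymm h7 (h5.trans h8)⟩, ?_⟩
  symm
  apply eq_of_le_of_card hle
  apply Nat.le_of_mul_le_mul_left (h7.trans h5)
  exact Nat.card_pos

theorem good_single [Fact p.Prime] {A : Subgroup G} (hP : Best ρ A)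
    (hA : ∀ a ∈ A, ∀ b ∈ A, a * b = b * a) (v : V) :
    Good ρ A (qq ρ A {v}) ∧ fx ρ (qq ρ A {v}) = br ρ A {v} ⊔ fx ρ A := by
  have h1 := card_single ρ hA v
  have hle : br ρ A {v} ⊔ fx ρ A ≤ fx ρ (qq ρ A {v}) :=
    sup_le (br_le_fx ρ A {v}) (fx_anti ρ (qq_le ρ A {v}))
  have h2 : Nat.card ↥(br ρ A {v} ⊔ fx ρ A) ≤ Nat.card (fx ρ (qq ρ A {v})) :=
    card_mono hle
  have h3 := hP _ (qq_le ρ A {v})
  have h4 : Nat.card (qq ρ A {v}) * Nat.card ↥(br ρ A {v} ⊔ fx ρ A) ≤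
      Nat.card (qq ρ A {v}) * Nat.card (fx ρ (qq ρ A {v})) := Nat.mul_le_mul_left _ h2
  refine ⟨⟨qq_le ρ A _, le_antisymm h3 (h1.trans h4)⟩, ?_⟩
  symm
  apply eq_of_le_of_card hle
  exact Nat.le_of_mul_le_mul_left (h3.trans h1) Nat.card_pos

theorem good_finset [Fact p.Prime] {A : Subgroup G} (hP : Best ρ A)
    (hA : ∀ a ∈ A, ∀ b ∈ A, a * b = b * a) (W : Finset V) :
    Good ρ A (qq ρ A (W : Set V)) ∧ fx ρ (qq ρ A (W : Set V)) ≤ br ρ A (W : Set V) ⊔ fx ρ A := by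
  classical
  induction W using Finset.induction_on with
  | empty =>
    have : qq ρ A ((∅ : Finset V) : Set V) = A := by
      ext b
      rw [mem_qq]
      simp
    rw [this]
    exact ⟨⟨le_refl _, rfl⟩, le_sup_right⟩
  | insert v W _ ih =>
    have h0 : qq ρ A ((insert v W : Finset V) : Set V) = qq ρ A {v} ⊓ qq ρ A (W : Set V) := by
      ext b
      rw [Subgroup.mem_inf, mem_qq, mem_qq, mem_qq]
      constructor
      · rintro ⟨hb, h⟩
        refine ⟨⟨hb, fun w hw => h w ?_⟩, hb, fun w hw => h w ?_⟩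
        · rw [Set.mem_singleton_iff] at hw; subst hw; simp
        · rw [Finset.coe_insert]; exact Set.mem_insert_of_mem _ hw
      · rintro ⟨⟨hb, h1⟩, _, h2⟩
        refine ⟨hb, fun w hw => ?_⟩
        rw [Finset.coe_insert, Set.mem_insert_iff] at hw
        rcases hw with rfl | hw
        · exact h1 w rfl
        · exact h2 w hw
    rw [h0]
    obtain ⟨g1, e1⟩ := good_single ρ hP hA v
    obtain ⟨g2, e2⟩ := good_inf ρ hP g1 ih.1
    refine ⟨g2, ?_⟩
    rw [e2, e1]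
    refine sup_le (sup_le ?_ le_sup_right) (ih.2.trans (sup_le ?_ le_sup_right))
    · refine le_trans (Submodule.span_mono ?_) le_sup_left
      rintro x ⟨w, hw, a, ha, rfl⟩
      rw [Set.mem_singleton_iff] at hw
      exact ⟨w, by rw [hw]; simp, a, ha, rfl⟩
    · refine le_trans (Submodule.span_mono ?_) le_sup_left
      rintro x ⟨w, hw, a, ha, rfl⟩
      exact ⟨w, by rw [Finset.coe_insert]; exact Set.mem_insert_of_mem _ hw, a, ha, rfl⟩

/-- **Timmesfeld replacement.** -/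
theorem timmesfeld [Fact p.Prime] {A : Subgroup G} (hP : Best ρ A)
    (hA : ∀ a ∈ A, ∀ b ∈ A, a * b = b * a) (hAp : IsPGroup p A) :
    ∃ Q : Subgroup G, Q ≤ A ∧ (∀ b ∈ Q, ∀ a ∈ A, ∀ v, ρ b (ρ a v - v) = ρ a v - v) ∧
      Nat.card Q * Nat.card (fx ρ Q) = Nat.card A * Nat.card (fx ρ A) ∧
      (∀ a ∈ A, (∀ v, ρ a v = v) → a ∈ Q) ∧
      ((∀ b ∈ Q, ∀ v, ρ b v = v) → ∀ a ∈ A, ∀ v, ρ a v = v) := by
  classical
  have : Fintype V := Fintype.ofFinite V
  obtain ⟨h1, h2⟩ := good_finset ρ hP hA Finset.univ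
  refine ⟨qq ρ A ((Finset.univ : Finset V) : Set V), h1.1, ?_, h1.2, ?_, ?_⟩
  · intro b hb a ha v
    exact hb.2 v (by simp) a ha
  · intro a ha hfix
    exact ⟨ha, fun w _ c _ => hfix _⟩
  · intro htriv a ha v
    have h3 : fx ρ (qq ρ A ((Finset.univ : Finset V) : Set V)) = ⊤ := by
      rw [eq_top_iff]; intro v _ b hb; exact htriv b hb v
    have h4 : fx ρ A = ⊤ := by
      apply trivial_of_comm ρ hAp
      rw [eq_top_iff, ← h3]
      refine h2.trans (sup_le_sup_right ?_ _)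
      rw [br]
      apply Submodule.span_mono
      rintro x ⟨w, _, c, hc, rfl⟩
      exact ⟨c, hc, w, rfl⟩
    have : v ∈ fx ρ A := h4 ▸ Submodule.mem_top
    exact this a ha

end Cfsg.Agent.H281.PGV
end

-- part: H281/PGV/Orbit
section
set_option autoImplicit false
set_option linter.unusedSectionVars false

/-! # P(G,V): the case where the quadratic part meets the normaliser trivially -/

namespace Cfsg.Agent.H281.PGV

universe u v

variable {p : ℕ} {G : Type u} {U : Type v} [Group G] [AddCommGroup U] [Module (ZMod p) U]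

/-- the configuration on the section `U` -/
structure Cfg (ρ : Representation (ZMod p) G U) (K A Q C : Subgroup G) : Prop where
  comm : ∀ a ∈ A, ∀ b ∈ A, a * b = b * a
  exp : ∀ a ∈ A, a ^ p = 1
  QA : Q ≤ A
  CQ : C ≤ Q
  conj : ∀ a ∈ A, a ∈ Subgroup.normalizer (K : Set G) ∨
    (∀ x ∈ K, ∀ y ∈ K, (a * x * a⁻¹) * y = y * (a * x * a⁻¹))
  quad : ∀ b ∈ Q, ∀ a ∈ A, ∀ v, ρ b (ρ a v - v) = ρ a v - v
  perf : ⁅K, K⁆ = K
  cK : ∀ c ∈ C, ∀ x ∈ K, c * x = x * c
  cU : ∀ c ∈ C, ∀ v, ρ c v = v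
  faith : ∀ b ∈ Q, b ∈ Subgroup.normalizer (K : Set G) → ∀ M : Submodule (ZMod p) U,
    (∀ x ∈ K, ∀ m ∈ M, ρ x m ∈ M) → (∃ x ∈ K, ∃ m ∈ M, ρ x m ≠ m) → (∀ m ∈ M, ρ b m = m) → b ∈ C
  faithZ : ∀ y ∈ K, (∀ k ∈ K, ∀ v, ρ y (ρ k v) = ρ k (ρ y v)) → ∀ k ∈ K, y * k = k * y
  off : Nat.card C * Nat.card U ≤ Nat.card Q * Nat.card (fx ρ Q)

variable (ρ : Representation (ZMod p) G U)

/-- A vector in regular orbit (modulo the kernel) of an abelian `p'`-group. -/
theorem exists_regular [Fact p.Prime] [Finite G] [Finite U] (D : Subgroup G)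
    (hD : ∀ a ∈ D, ∀ b ∈ D, a * b = b * a) (N : ℕ) (hN : ∀ a ∈ D, a ^ N = 1) (hpN : ¬ p ∣ N) :
    ∃ v : U, ∀ d ∈ D, ρ d v = v → ∀ w, ρ d w = w := by
  classical
  have hNne : (N : ZMod p) ≠ 0 := by
    intro h
    exact hpN ((ZMod.natCast_eq_zero_iff N p).1 h)
  -- fixed vectors of the form `(t - 1) u` vanish
  have key : ∀ t ∈ D, ∀ u : U, ρ t (ρ t u - u) = ρ t u - u → ρ t u = u := by
    intro t ht u h
    have h1 : ∀ j : ℕ, ρ (t ^ j) u = u + (j : ZMod p) • (ρ t u - u) := by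
      intro j
      induction j with
      | zero => simp
      | succ j ih =>
        rw [pow_succ', mul_ap, ih, map_add, map_smul, h]
        push_cast
        rw [add_smul, one_smul]
        abel
    have h2 := h1 N
    rw [hN t ht, one_ap] at h2
    have h3 : (N : ZMod p) • (ρ t u - u) = 0 := by
      have : u + (N : ZMod p) • (ρ t u - u) = u + 0 := by rw [← h2, add_zero]
      exact add_left_cancel this
    have h4 := (smul_eq_zero.1 h3).resolve_left hNne
    exact sub_eq_zero.1 h4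
  let f : U → ℕ := fun v => Nat.card (D ⊓ stab ρ v : Subgroup G)
  obtain ⟨v, hv⟩ : ∃ v, ∀ w, f v ≤ f w := by
    have hne : (Set.range f).Nonempty := ⟨f 0, 0, rfl⟩
    obtain ⟨v, hv⟩ := Nat.sInf_mem hne
    exact ⟨v, fun w => by rw [hv]; exact Nat.sInf_le ⟨w, rfl⟩⟩
  refine ⟨v, ?_⟩
  intro t ht htv
  by_contra hcon
  push Not at hcon
  obtain ⟨u, hu⟩ := hcon
  -- `v + (t u - u)` has a smaller stabiliser
  have h1 : D ⊓ stab ρ (v + (ρ t u - u)) < D ⊓ stab ρ v := by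
    have hle : D ⊓ stab ρ (v + (ρ t u - u)) ≤ D ⊓ stab ρ v := by
      rintro d ⟨hd, hdv⟩
      refine ⟨hd, ?_⟩
      change ρ d (v + (ρ t u - u)) = v + (ρ t u - u) at hdv
      change ρ d v = v
      rw [map_add] at hdv
      -- c = d v - v = (t-1) u - d (t-1) u = (t - 1)(u - d u)
      have h2 : ρ d v - v = ρ t (u - ρ d u) - (u - ρ d u) := by
        have h3 : ρ d (ρ t u - u) = ρ t (ρ d u) - ρ d u := by
          rw [map_sub, ← mul_ap, hD d hd t ht, mul_ap]
        rw [h3] at hdv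
        have h4 : ρ d v = v + (ρ t u - u) - (ρ t (ρ d u) - ρ d u) := by rw [← hdv]; abel
        rw [h4, map_sub]; abel
      have h5 : ρ t (ρ d v - v) = ρ d v - v := by
        rw [map_sub, ← mul_ap, hD t ht d hd, mul_ap, htv]
      have h6 : ρ t (u - ρ d u) = u - ρ d u := by
        apply key t ht
        rw [← h2]; exact h5
      rw [h6, sub_self] at h2
      exact sub_eq_zero.1 h2
    refine lt_of_le_of_ne hle ?_
    intro heq
    have h2 : t ∈ D ⊓ stab ρ v := ⟨ht, htv⟩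
    rw [← heq] at h2
    have h3 : ρ t (v + (ρ t u - u)) = v + (ρ t u - u) := h2.2
    rw [map_add, htv] at h3
    exact hu (key t ht u (add_left_cancel h3))
  have h2 : f (v + (ρ t u - u)) < f v := by
    have := Set.ncard_lt_ncard (s := ((D ⊓ stab ρ (v + (ρ t u - u)) : Subgroup G) : Set G))
      (t := ((D ⊓ stab ρ v : Subgroup G) : Set G)) (SetLike.coe_ssubset_coe.2 h1) (Set.toFinite _)
    exact this
  exact absurd (hv (v + (ρ t u - u))) (not_le.2 h2)

/-- An abelian `p'`-group fixing `W` pointwise induces at most `|U / W|` operators. -/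
theorem card_le_quot [Fact p.Prime] [Finite G] [Finite U] (D : Subgroup G)
    (hD : ∀ a ∈ D, ∀ b ∈ D, a * b = b * a) (N : ℕ) (hN : ∀ a ∈ D, a ^ N = 1) (hpN : ¬ p ∣ N)
    (W : Submodule (ZMod p) U) (hW : ∀ d ∈ D, ∀ w ∈ W, ρ d w = w) :
    (ρ '' (D : Set G)).ncard ≤ Nat.card (U ⧸ W) := by
  classical
  have hfin : Finite (U ⧸ W) := Finite.of_surjective _ W.mkQ_surjective
  obtain ⟨v, hv⟩ := exists_regular ρ D hD N hN hpN
  have hNne : (N : ZMod p) ≠ 0 := by
    intro h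
    exact hpN ((ZMod.natCast_eq_zero_iff N p).1 h)
  rw [← Nat.card_coe_set_eq]
  apply Nat.card_le_card_of_injective (fun T : (ρ '' (D : Set G)) => W.mkQ (T.1 v))
  rintro ⟨_, d, hd, rfl⟩ ⟨_, d', hd', rfl⟩ h
  simp only at h
  have h1 : ρ d v - ρ d' v ∈ W := (Submodule.Quotient.eq W).1 h
  set t := d'⁻¹ * d with ht
  have htD : t ∈ D := mul_mem (inv_mem hd') hd
  have h2 : ρ t v = v + (ρ d v - ρ d' v) := by
    have h3 : ρ d'⁻¹ (ρ d v - ρ d' v) = ρ d v - ρ d' v := hW _ (inv_mem hd') _ h1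
    rw [map_sub, inv_ap_ap, ← mul_ap] at h3
    rw [← h3]; abel
  have h3 : ∀ j : ℕ, ρ (t ^ j) v = v + (j : ZMod p) • (ρ d v - ρ d' v) := by
    intro j
    induction j with
    | zero => simp
    | succ j ih =>
      rw [pow_succ', mul_ap, ih, map_add, map_smul, h2, hW t htD _ h1]
      push_cast
      rw [add_smul, one_smul]
      abel
  have h4 := h3 N
  rw [hN t htD, one_ap] at h4
  have h5 : (N : ZMod p) • (ρ d v - ρ d' v) = 0 := by
    have : v + (N : ZMod p) • (ρ d v - ρ d' v) = v + 0 := by rw [← h4, add_zero]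
    exact add_left_cancel this
  have h6 := (smul_eq_zero.1 h5).resolve_left hNne
  rw [h6, add_zero] at h2
  have h7 := hv t htD h2
  apply Subtype.ext
  simp only
  apply LinearMap.ext
  intro w
  have := h7 w
  rw [ht, mul_ap] at this
  have h8 : ρ d' (ρ d'⁻¹ (ρ d w)) = ρ d' w := by rw [this]
  rwa [ap_inv_ap] at h8

/-- numerical lemma -/
theorem numer {r m : ℕ} (hm : 2 ≤ m) (h : 5 ≤ r ∨ (3 ≤ r ∧ 5 ≤ m)) : m ^ 2 < r ^ (m - 1) := by
  rcases h with h | ⟨h, h5⟩
  · have h1 : m ^ 2 < 5 ^ (m - 1) := by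
      obtain ⟨k, rfl⟩ := Nat.exists_eq_add_of_le hm
      clear hm
      induction k with
      | zero => norm_num
      | succ k ih =>
        have e : 2 + (k + 1) - 1 = (2 + k - 1) + 1 := by omega
        rw [e, pow_succ 5]
        calc (2 + (k + 1)) ^ 2 ≤ (2 + k) ^ 2 * 5 := by ring_nf; nlinarith [Nat.zero_le k]
          _ < _ := Nat.mul_lt_mul_of_pos_right ih (by norm_num)
    exact h1.trans_le (Nat.pow_le_pow_left h _)
  · have h1 : m ^ 2 < 3 ^ (m - 1) := by
      obtain ⟨k, rfl⟩ := Nat.exists_eq_add_of_le h5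
      clear hm h5
      induction k with
      | zero => norm_num
      | succ k ih =>
        have e : 5 + (k + 1) - 1 = (5 + k - 1) + 1 := by omega
        rw [e, pow_succ 3]
        calc (5 + (k + 1)) ^ 2 ≤ (5 + k) ^ 2 * 3 := by ring_nf; nlinarith [Nat.zero_le k]
          _ < _ := Nat.mul_lt_mul_of_pos_right ih (by norm_num)
    exact h1.trans_le (Nat.pow_le_pow_left h _)

theorem card_quot_inf [Finite U] (Y Z : Submodule (ZMod p) U) :
    Nat.card (U ⧸ (Y ⊓ Z)) ≤ Nat.card (U ⧸ Y) * Nat.card (U ⧸ Z) := by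
  have hfy : Finite (U ⧸ Y) := Finite.of_surjective _ Y.mkQ_surjective
  have hfz : Finite (U ⧸ Z) := Finite.of_surjective _ Z.mkQ_surjective
  rw [← Nat.card_prod]
  apply Nat.card_le_card_of_injective (fun x : U ⧸ (Y ⊓ Z) =>
    ((Y ⊓ Z).mapQ Y LinearMap.id inf_le_left x, (Y ⊓ Z).mapQ Z LinearMap.id inf_le_right x))
  intro a b hab
  obtain ⟨a, rfl⟩ := (Y ⊓ Z).mkQ_surjective a
  obtain ⟨b, rfl⟩ := (Y ⊓ Z).mkQ_surjective b
  simp only [Submodule.mkQ_apply, Submodule.mapQ_apply, LinearMap.id_apply, Prod.mk.injEq,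
    Submodule.Quotient.eq] at hab ⊢
  exact hab

end Cfsg.Agent.H281.PGV
end

-- part: H281/PGV/Elt
section
set_option autoImplicit false
set_option linter.unusedSectionVars false

/-! # P(G,V): a suitable `p'`-element of a perfect group -/

namespace Cfsg.Agent.H281.PGV

universe u

variable {G : Type u} [Group G]

theorem comm_top {K : Subgroup G} (hK : ⁅K, K⁆ = K) : commutator K = ⊤ := by
  apply Subgroup.map_injective K.subtype_injective
  rw [Subgroup.map_subtype_commutator, hK, ← MonoidHom.range_eq_map, Subgroup.range_subtype]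

theorem not_solvable_of_perf {K : Type u} [Group K] (hK : commutator K = ⊤)
    (hne : ∃ x y : K, x * y ≠ y * x) : ¬ Group.IsSolvable K := by
  intro hs
  obtain ⟨x, y, hxy⟩ := hne
  have : Nontrivial K := ⟨⟨x * y, y * x, hxy⟩⟩
  exact (Group.IsSolvable.commutator_lt_top_of_nontrivial K).ne hK

theorem exists_elt' {K : Type u} [Group K] [Finite K] (hK : commutator K = ⊤)
    (hne : ∃ x y : K, x * y ≠ y * x) {p : ℕ} (hp : p.Prime) :
    ∃ (r : ℕ) (x : K) (N : ℕ), r.Prime ∧ (5 ≤ r ∨ (3 ≤ r ∧ 5 ≤ p)) ∧ x ∉ Subgroup.center K ∧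
      x ^ r ∈ Subgroup.center K ∧ x ^ N = 1 ∧ ¬ p ∣ N := by
  classical
  have hns := not_solvable_of_perf hK hne
  have hns2 : ¬ Group.IsSolvable (K ⧸ Subgroup.center K) := by
    intro h
    apply hns
    rw [Group.isSolvable_iff_subgroup_quotient (Subgroup.center K)]
    refine ⟨Group.isSolvable_of_comm (fun a b => ?_), h⟩
    exact Subtype.ext (Subgroup.mem_center_iff.1 b.2 a.1)
  have h3 : 3 ≤ (Nat.card (K ⧸ Subgroup.center K)).primeFactors.card := by
    by_contra hcon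
    exact hns2 (SolvableStructure.HallConverse.isSolvable_of_no_three_primes (by omega))
  obtain ⟨r, hr, hrp, hr5⟩ : ∃ r, r ∈ (Nat.card (K ⧸ Subgroup.center K)).primeFactors ∧ r ≠ p ∧
      (5 ≤ r ∨ (3 ≤ r ∧ 5 ≤ p)) := by
    by_contra hcon
    push Not at hcon
    by_cases h5 : 5 ≤ p
    · have hsub : (Nat.card (K ⧸ Subgroup.center K)).primeFactors ⊆ {2, p} := by
        intro r hr
        by_cases h : r = p
        · simp [h]
        · have h1 := hcon r hr h
          have h2 := (Nat.prime_of_mem_primeFactors hr).two_le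
          have h6 : r < 3 := by
            by_contra h7
            exact absurd h5 (not_le.2 (h1.2 (not_lt.1 h7)))
          have : r = 2 := by omega
          simp [this]
      have := (Finset.card_le_card hsub).trans (Finset.card_le_two)
      omega
    · have hsub : (Nat.card (K ⧸ Subgroup.center K)).primeFactors ⊆ {2, 3} := by
        intro r hr
        have hr2 := Nat.prime_of_mem_primeFactors hr
        have h2 := hr2.two_le
        by_cases h : r = p
        · subst h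
          have h4 : r ≠ 4 := by rintro rfl; exact absurd hr2 (by norm_num)
          have : r = 2 ∨ r = 3 := by omega
          rcases this with rfl | rfl <;> simp
        · have h1 := (hcon r hr h).1
          have h4 : r ≠ 4 := by rintro rfl; exact absurd hr2 (by norm_num)
          have : r = 2 ∨ r = 3 := by omega
          rcases this with rfl | rfl <;> simp
      have := (Finset.card_le_card hsub).trans (Finset.card_le_two)
      omega
  have hrprime := Nat.prime_of_mem_primeFactors hr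
  have : Fact r.Prime := ⟨hrprime⟩
  obtain ⟨y, hy⟩ := exists_prime_orderOf_dvd_card' r (Nat.dvd_of_mem_primeFactors hr)
  obtain ⟨z, rfl⟩ := QuotientGroup.mk_surjective y
  have hz0 : orderOf z ≠ 0 := (orderOf_pos z).ne'
  obtain ⟨a, N, hpN, hN⟩ := Nat.exists_eq_pow_mul_and_not_dvd hz0 p hp.ne_one
  refine ⟨r, z ^ (p ^ a), N, hrprime, hr5, ?_, ?_, ?_, hpN⟩
  · intro h
    have h1 : ((z ^ (p ^ a) : K) : K ⧸ Subgroup.center K) = 1 := (QuotientGroup.eq_one_iff _).2 h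
    rw [QuotientGroup.mk_pow] at h1
    have h2 := orderOf_dvd_of_pow_eq_one h1
    rw [hy] at h2
    have h3 := hrprime.dvd_of_dvd_pow h2
    exact hrp ((Nat.prime_dvd_prime_iff_eq hrprime hp).1 h3)
  · have h1 : ((z ^ (p ^ a) : K) ^ r : K ⧸ Subgroup.center K) = 1 := by
      rw [QuotientGroup.mk_pow, ← pow_mul, mul_comm, pow_mul, ← hy, pow_orderOf_eq_one, one_pow]
    rw [← QuotientGroup.mk_pow] at h1
    exact (QuotientGroup.eq_one_iff _).1 h1
  · rw [← pow_mul, ← hN, pow_orderOf_eq_one]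

/-- the element used in the orbit argument -/
theorem exists_elt [Finite G] {K : Subgroup G} (hK : ⁅K, K⁆ = K)
    (hne : ∃ x ∈ K, ∃ y ∈ K, x * y ≠ y * x) {p : ℕ} (hp : p.Prime) :
    ∃ (r : ℕ) (x : G) (N : ℕ), r.Prime ∧ (5 ≤ r ∨ (3 ≤ r ∧ 5 ≤ p)) ∧ x ∈ K ∧
      (¬ ∀ k ∈ K, x * k = k * x) ∧ (∀ k ∈ K, x ^ r * k = k * x ^ r) ∧ x ^ N = 1 ∧ ¬ p ∣ N := by
  obtain ⟨x, hx, y, hy, hxy⟩ := hne
  obtain ⟨r, z, N, h1, h2, h3, h4, h5, h6⟩ := exists_elt' (comm_top hK)
    ⟨⟨x, hx⟩, ⟨y, hy⟩, fun h => hxy (congrArg Subtype.val h)⟩ hp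
  refine ⟨r, z.1, N, h1, h2, z.2, ?_, ?_, ?_, h6⟩
  · intro h
    apply h3
    rw [Subgroup.mem_center_iff]
    intro g
    exact Subtype.ext (h g.1 g.2).symm
  · intro k hk
    rw [Subgroup.mem_center_iff] at h4
    exact (congrArg Subtype.val (h4 ⟨k, hk⟩)).symm
  · exact congrArg Subtype.val h5

end Cfsg.Agent.H281.PGV
end

-- part: H281/PGV/CaseTwo
section
set_option autoImplicit false
set_option linter.unusedSectionVars false

/-! # P(G,V): the case where the quadratic part meets the normaliser in the centraliser -/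

namespace Cfsg.Agent.H281.PGV

universe u v

variable {p : ℕ} {G : Type u} {U : Type v} [Group G] [AddCommGroup U] [Module (ZMod p) U]
variable (ρ : Representation (ZMod p) G U)

theorem isPGroup_of_exp [Fact p.Prime] {A : Subgroup G} (hA : ∀ a ∈ A, a ^ p = 1) : IsPGroup p A := by
  intro a
  exact ⟨1, by rw [pow_one]; exact Subtype.ext (hA a.1 a.2)⟩

theorem closure_comm {S : Set G} (hS : ∀ a ∈ S, ∀ b ∈ S, a * b = b * a) :
    ∀ a ∈ Subgroup.closure S, ∀ b ∈ Subgroup.closure S, a * b = b * a := by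
  have h1 : Subgroup.closure S ≤ Subgroup.centralizer S := by
    rw [Subgroup.closure_le]
    intro a ha
    exact Subgroup.mem_centralizer_iff.2 (fun b hb => hS b hb a ha)
  have h2 : Subgroup.closure S ≤ Subgroup.centralizer (Subgroup.closure S : Set G) := by
    rw [Subgroup.closure_le]
    intro a ha
    rw [SetLike.mem_coe, Subgroup.mem_centralizer_iff]
    intro b hb
    exact (Subgroup.mem_centralizer_iff.1 (h1 hb) a ha).symm
  intro a ha b hb
  exact Subgroup.mem_centralizer_iff.1 (h2 hb) a ha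

theorem closure_pow {S : Set G} (hS : ∀ a ∈ S, ∀ b ∈ S, a * b = b * a) {N : ℕ}
    (hN : ∀ a ∈ S, a ^ N = 1) : ∀ a ∈ Subgroup.closure S, a ^ N = 1 := by
  have hc := closure_comm hS
  intro a ha
  induction ha using Subgroup.closure_induction with
  | mem x hx => exact hN x hx
  | one => exact one_pow _
  | mul x y hx hy h1 h2 =>
    have : Commute x y := hc x hx y hy
    rw [this.mul_pow, h1, h2, one_mul]
  | inv x _ h1 => rw [inv_pow, h1, inv_one]

theorem closure_cent {S : Set G} {y : G} (hS : ∀ a ∈ S, a * y = y * a) :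
    ∀ a ∈ Subgroup.closure S, a * y = y * a := by
  intro a ha
  have h1 : Subgroup.closure S ≤ Subgroup.centralizer {y} := by
    rw [Subgroup.closure_le]
    intro a ha
    rw [SetLike.mem_coe, Subgroup.mem_centralizer_singleton_iff]
    exact hS a ha
  have h2 := h1 ha
  rw [Subgroup.mem_centralizer_singleton_iff] at h2
  exact h2

variable [Finite G] [Finite U]

theorem card_relIndex {C Q : Subgroup G} (h : C ≤ Q) : C.relIndex Q * Nat.card C = Nat.card Q := by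
  have h1 := Subgroup.card_eq_card_quotient_mul_card_subgroup (C.subgroupOf Q)
  rw [Nat.card_congr (Subgroup.subgroupOfEquivOfLe h).toEquiv] at h1
  exact h1.symm

theorem card_quot_le [Fact p.Prime] {K A Q C : Subgroup G} (h : Cfg ρ K A Q C) :
    Nat.card (U ⧸ fx ρ Q) ≤ C.relIndex Q := by
  have h1 := h.off
  have h2 := card_relIndex h.CQ
  have h3 := Submodule.card_eq_card_quotient_mul_card (fx ρ Q)
  rw [← h2, h3] at h1
  have hpos : 0 < Nat.card C * Nat.card (fx ρ Q) := Nat.mul_pos Nat.card_pos Nat.card_pos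
  apply Nat.le_of_mul_le_mul_right _ hpos
  calc _ = _ := ?_
    _ ≤ _ := h1
    _ = _ := ?_
  · ring
  · ring

theorem card_map_quot (Y : Submodule (ZMod p) U) (x : G) :
    Nat.card (U ⧸ Y.map (ρ x)) = Nat.card (U ⧸ Y) := by
  have h3 := Submodule.card_eq_card_quotient_mul_card Y
  have h4 := Submodule.card_eq_card_quotient_mul_card (Y.map (ρ x))
  have h5 : Nat.card (Y.map (ρ x)) = Nat.card Y := by
    symm
    apply Nat.card_congr
    exact (Submodule.equivMapOfInjective (ρ x) (fun a b hab => ap_inj ρ x hab) Y).toEquiv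
  rw [h5] at h4
  rw [h4] at h3
  exact Nat.eq_of_mul_eq_mul_left Nat.card_pos h3

theorem caseII [Fact p.Prime] {K A Q C : Subgroup G} (h : Cfg ρ K A Q C)
    (hne : ∃ x ∈ K, ∃ y ∈ K, x * y ≠ y * x) (hQC : ¬ Q ≤ C)
    (hB : ∀ b ∈ Q, b ∉ C → ∀ x ∈ K, ∀ y ∈ K, (b * x * b⁻¹) * y = y * (b * x * b⁻¹)) : False := by
  classical
  have hp : p.Prime := Fact.out
  obtain ⟨r, x, N, hr, hr5, hxK, hxZ, hxr, hxN, hpN⟩ := exists_elt h.perf hne hp
  set C' := C.subgroupOf Q with hC'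
  let τ : Q ⧸ C' → G := fun q => (q.out : G)
  have hτ : ∀ q, τ q ∈ Q := fun q => (q.out).2
  have hτne : ∀ q q' : Q ⧸ C', q ≠ q' → (τ q)⁻¹ * τ q' ∉ C := by
    intro q q' hqq hcon
    apply hqq
    rw [← QuotientGroup.out_eq' q, ← QuotientGroup.out_eq' q', QuotientGroup.eq]
    exact hcon
  have hτ1 : ∀ q : Q ⧸ C', q ≠ ((1 : Q) : Q ⧸ C') → τ q ∉ C := by
    intro q hq hcon
    apply hq
    rw [← QuotientGroup.out_eq' q, eq_comm, QuotientGroup.eq, inv_one, one_mul]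
    exact hcon
  -- conjugates commute
  have hcx : ∀ b ∈ Q, b ∉ C → ∀ y ∈ K, (b * x * b⁻¹) * y = y * (b * x * b⁻¹) :=
    fun b hb hbC y hy => hB b hb hbC x hxK y hy
  have hc1 : ∀ b ∈ Q, (b * x * b⁻¹) * x = x * (b * x * b⁻¹) := by
    intro b hb
    by_cases hbC : b ∈ C
    · rw [h.cK b hbC x hxK, mul_inv_cancel_right]
    · exact hcx b hb hbC x hxK
  have hc2 : ∀ b ∈ Q, ∀ c ∈ Q, (b * x * b⁻¹) * (c * x * c⁻¹) = (c * x * c⁻¹) * (b * x * b⁻¹) := by
    intro b hb c hc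
    have h1 := hc1 (c⁻¹ * b) (mul_mem (inv_mem hc) hb)
    have h2 : c * ((c⁻¹ * b * x * (c⁻¹ * b)⁻¹) * x) * c⁻¹ = c * (x * (c⁻¹ * b * x * (c⁻¹ * b)⁻¹)) * c⁻¹ := by
      rw [h1]
    have e1 : c * ((c⁻¹ * b * x * (c⁻¹ * b)⁻¹) * x) * c⁻¹ = (b * x * b⁻¹) * (c * x * c⁻¹) := by group
    have e2 : c * (x * (c⁻¹ * b * x * (c⁻¹ * b)⁻¹)) * c⁻¹ = (c * x * c⁻¹) * (b * x * b⁻¹) := by group
    rw [← e1, ← e2, h2]
  let g : Q ⧸ C' → G := fun q => τ q * x * (τ q)⁻¹ * x⁻¹
  have hgg : ∀ a ∈ Set.range g, ∀ b ∈ Set.range g, a * b = b * a := by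
    rintro _ ⟨q, rfl⟩ _ ⟨q', rfl⟩
    have c1 : Commute (τ q * x * (τ q)⁻¹) (τ q' * x * (τ q')⁻¹) := hc2 _ (hτ q) _ (hτ q')
    have c2 : Commute (τ q * x * (τ q)⁻¹) x := hc1 _ (hτ q)
    have c3 : Commute (τ q' * x * (τ q')⁻¹) x := hc1 _ (hτ q')
    exact ((c1.mul_right c2.inv_right).mul_left (c3.inv_right.symm.mul_right (Commute.refl _)))
  have hgN : ∀ a ∈ Set.range g, a ^ N = 1 := by
    rintro _ ⟨q, rfl⟩
    have c2 : Commute (τ q * x * (τ q)⁻¹) x := hc1 _ (hτ q)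
    change ((τ q * x * (τ q)⁻¹) * x⁻¹) ^ N = 1
    rw [c2.inv_right.mul_pow, inv_pow, hxN, conj_pow, hxN]
    simp
  -- the count
  have hcount : ∀ s : Finset (Q ⧸ C'), ((1 : Q) : Q ⧸ C') ∉ s →
      r ^ s.card ≤ (ρ '' (Subgroup.closure (g '' s) : Set G)).ncard := by
    intro s
    induction s using Finset.induction_on with
    | empty =>
      intro _
      rw [Finset.card_empty, pow_zero]
      apply Nat.succ_le_of_lt
      rw [Set.ncard_pos (Set.toFinite _)]
      exact ⟨ρ 1, 1, one_mem _, rfl⟩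
    | insert q s hqs ih =>
      intro h1
      have hq1 : q ≠ ((1 : Q) : Q ⧸ C') := fun hq => h1 (by rw [hq]; exact Finset.mem_insert_self _ _)
      have hs1 : ((1 : Q) : Q ⧸ C') ∉ s := fun hq => h1 (Finset.mem_insert_of_mem hq)
      have ih' := ih hs1
      rw [Finset.card_insert_of_notMem hqs, pow_succ]
      refine (Nat.mul_le_mul_right r ih').trans ?_
      have hle : Subgroup.closure (g '' s) ≤ Subgroup.closure (g '' (insert q s : Finset _)) :=
        Subgroup.closure_mono (Set.image_mono (by rw [Finset.coe_insert]; exact Set.subset_insert _ _))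
      have hgq : g q ∈ Subgroup.closure (g '' (insert q s : Finset _)) :=
        Subgroup.subset_closure ⟨q, by rw [Finset.coe_insert]; exact Set.mem_insert _ _, rfl⟩
      -- elements of `D_s` commute with `K^(τ q)`
      have hcent : ∀ d ∈ Subgroup.closure (g '' (s : Set (Q ⧸ C'))), ∀ k ∈ K,
          d * (τ q * k * (τ q)⁻¹) = (τ q * k * (τ q)⁻¹) * d := by
        intro d hd k hk
        apply closure_cent _ d hd
        rintro _ ⟨q', hq', rfl⟩
        have hne' : q ≠ q' := fun hh => hqs (hh ▸ hq')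
        have c1 : Commute (τ q' * x * (τ q')⁻¹) (τ q * k * (τ q)⁻¹) := by
          have h2 := hcx ((τ q)⁻¹ * τ q') (mul_mem (inv_mem (hτ q)) (hτ q')) (hτne q q' hne') k hk
          have h3 : τ q * ((((τ q)⁻¹ * τ q') * x * ((τ q)⁻¹ * τ q')⁻¹) * k) * (τ q)⁻¹ =
              τ q * (k * (((τ q)⁻¹ * τ q') * x * ((τ q)⁻¹ * τ q')⁻¹)) * (τ q)⁻¹ := by rw [h2]
          have e1 : τ q * ((((τ q)⁻¹ * τ q') * x * ((τ q)⁻¹ * τ q')⁻¹) * k) * (τ q)⁻¹ =
              (τ q' * x * (τ q')⁻¹) * (τ q * k * (τ q)⁻¹) := by group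
          have e2 : τ q * (k * (((τ q)⁻¹ * τ q') * x * ((τ q)⁻¹ * τ q')⁻¹)) * (τ q)⁻¹ =
              (τ q * k * (τ q)⁻¹) * (τ q' * x * (τ q')⁻¹) := by group
          change _ = _
          rw [← e1, ← e2, h3]
        have c2 : Commute x (τ q * k * (τ q)⁻¹) :=
          (hB _ (hτ q) (hτ1 q hq1) k hk x hxK).symm
        exact c1.mul_left c2.inv_left
      have hx1 : ∀ k ∈ K, Commute x (τ q * k * (τ q)⁻¹) := fun k hk =>
        (hB _ (hτ q) (hτ1 q hq1) k hk x hxK).symm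
      -- the crucial point
      have hkey : ∀ (k : ℕ), ∀ d ∈ Subgroup.closure (g '' (s : Set (Q ⧸ C'))),
          ρ (g q ^ k) = ρ d → r ∣ k := by
        intro k d hd hk
        have e1 : g q ^ k = τ q * x ^ k * (τ q)⁻¹ * (x ^ k)⁻¹ := by
          have c2 : Commute (τ q * x * (τ q)⁻¹) x := hc1 _ (hτ q)
          change ((τ q * x * (τ q)⁻¹) * x⁻¹) ^ k = _
          rw [c2.inv_right.mul_pow, inv_pow, conj_pow]
        have e2 : ρ (τ q * x ^ k * (τ q)⁻¹) = ρ (d * x ^ k) := by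
          rw [map_mul ρ d, ← hk, ← map_mul, e1, inv_mul_cancel_right]
        have e3 : ∀ y ∈ K, ρ (x ^ k * y) = ρ (y * x ^ k) := by
          intro y hy
          have f1 : Commute (d * x ^ k) (τ q * y * (τ q)⁻¹) :=
            Commute.mul_left (hcent d hd y hy) ((hx1 y hy).pow_left k)
          have f2 : ρ ((τ q * x ^ k * (τ q)⁻¹) * (τ q * y * (τ q)⁻¹)) =
              ρ ((τ q * y * (τ q)⁻¹) * (τ q * x ^ k * (τ q)⁻¹)) := by
            rw [map_mul, e2, ← map_mul, f1.eq, map_mul, ← e2, ← map_mul]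
          have f3 : x ^ k * y = (τ q)⁻¹ * ((τ q * x ^ k * (τ q)⁻¹) * (τ q * y * (τ q)⁻¹)) * τ q := by
            group
          have f4 : y * x ^ k = (τ q)⁻¹ * ((τ q * y * (τ q)⁻¹) * (τ q * x ^ k * (τ q)⁻¹)) * τ q := by
            group
          rw [f3, f4, map_mul, map_mul, f2, ← map_mul, ← map_mul]
        have e4 : ∀ y ∈ K, x ^ k * y = y * x ^ k := by
          apply h.faithZ _ (pow_mem hxK k)
          intro y hy w
          rw [← mul_ap, e3 y hy, mul_ap]
        by_contra hrk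
        have hcop : Nat.Coprime k r := ((Nat.Prime.coprime_iff_not_dvd hr).2 hrk).symm
        apply hxZ
        intro y hy
        have f1 : Commute (x ^ k) y := e4 y hy
        have f2 : Commute (x ^ r) y := hxr y hy
        have f3 : (1 : ℤ) = k * Nat.gcdA k r + r * Nat.gcdB k r := by
          rw [← Nat.gcd_eq_gcd_ab, hcop]; rfl
        have f4 : x = (x ^ k) ^ (Nat.gcdA k r) * (x ^ r) ^ (Nat.gcdB k r) := by
          rw [← zpow_natCast x k, ← zpow_natCast x r, ← zpow_mul, ← zpow_mul, ← zpow_add, ← f3, zpow_one]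
        change Commute x y
        rw [f4]
        exact (f1.zpow_left _).mul_left (f2.zpow_left _)
      rw [← Nat.card_coe_set_eq, ← Nat.card_coe_set_eq, mul_comm]
      nth_rewrite 1 [← Nat.card_fin r]
      rw [← Nat.card_prod]
      have hf : ∀ et : Fin r × (ρ '' (Subgroup.closure (g '' (s : Set (Q ⧸ C'))) : Set G)),
          ρ (g q ^ et.1.1) * et.2.1 ∈
            ρ '' (Subgroup.closure (g '' ((insert q s : Finset (Q ⧸ C')) : Set (Q ⧸ C'))) : Set G) := by
        rintro ⟨e, _, d, hd, rfl⟩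
        exact ⟨g q ^ e.1 * d, mul_mem (pow_mem hgq _) (hle hd), map_mul _ _ _⟩
      apply Nat.card_le_card_of_injective (fun et => ⟨_, hf et⟩)
      -- wlog
      have hinj : ∀ e e' : ℕ, e < r → e' < r → e' ≤ e →
          ∀ d ∈ Subgroup.closure (g '' (s : Set (Q ⧸ C'))),
          ∀ d' ∈ Subgroup.closure (g '' (s : Set (Q ⧸ C'))),
          ρ (g q ^ e) * ρ d = ρ (g q ^ e') * ρ d' → e = e' := by
        intro e e' he he' hee d hd d' hd' heq
        have h2 : ρ (g q ^ (e - e')) = ρ (d' * d⁻¹) := by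
          rw [← map_mul, ← map_mul] at heq
          have h3 : ρ ((g q ^ e')⁻¹ * (g q ^ e * d) * d⁻¹) = ρ ((g q ^ e')⁻¹ * (g q ^ e' * d') * d⁻¹) := by
            rw [map_mul, map_mul, heq, ← map_mul, ← map_mul]
          have h4 : (g q ^ e')⁻¹ * (g q ^ e * d) * d⁻¹ = g q ^ (e - e') := by
            obtain ⟨j, rfl⟩ := Nat.exists_eq_add_of_le hee
            rw [Nat.add_sub_cancel_left, pow_add]
            group
          have h5 : (g q ^ e')⁻¹ * (g q ^ e' * d') * d⁻¹ = d' * d⁻¹ := by group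
          rwa [h4, h5] at h3
        have h3 := hkey (e - e') _ (mul_mem hd' (inv_mem hd)) h2
        have h4 := Nat.eq_zero_of_dvd_of_lt h3 (by omega)
        omega
      rintro ⟨e, _, d, hd, rfl⟩ ⟨e', _, d', hd', rfl⟩ heq
      simp only [Subtype.mk.injEq] at heq
      have hee : e.1 = e'.1 := by
        rcases le_total e'.1 e.1 with hle' | hle'
        · exact hinj _ _ e.2 e'.2 hle' d hd d' hd' heq
        · exact (hinj _ _ e'.2 e.2 hle' d' hd' d hd heq.symm).symm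
      have hee' : e = e' := Fin.ext hee
      subst hee'
      refine Prod.ext rfl (Subtype.ext ?_)
      simp only
      have h2 : ρ ((g q ^ e.1)⁻¹) * (ρ (g q ^ e.1) * ρ d) = ρ ((g q ^ e.1)⁻¹) * (ρ (g q ^ e.1) * ρ d') := by
        rw [heq]
      rwa [← mul_assoc, ← mul_assoc, ← map_mul, inv_mul_cancel, map_one, one_mul, one_mul] at h2
  -- the fixed space
  have hfintype : Fintype (Q ⧸ C') := Fintype.ofFinite _
  set S : Finset (Q ⧸ C') := Finset.univ.erase ((1 : Q) : Q ⧸ C') with hS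
  set D := Subgroup.closure (g '' (S : Set (Q ⧸ C'))) with hD
  set m := C.relIndex Q with hm
  have hcardS : S.card = m - 1 := by
    rw [hS, Finset.card_erase_of_mem (Finset.mem_univ _), Finset.card_univ, ← Nat.card_eq_fintype_card]
    rfl
  have h1 := hcount S (by rw [hS]; exact Finset.notMem_erase _ _)
  rw [hcardS] at h1
  have hDcomm : ∀ a ∈ D, ∀ b ∈ D, a * b = b * a :=
    closure_comm (fun a ha b hb => hgg a (Set.image_subset_range _ _ ha) b (Set.image_subset_range _ _ hb))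
  have hDN : ∀ a ∈ D, a ^ N = 1 :=
    closure_pow (fun a ha b hb => hgg a (Set.image_subset_range _ _ ha) b (Set.image_subset_range _ _ hb))
      (fun a ha => hgN a (Set.image_subset_range _ _ ha))
  have h2 := card_le_quot ρ D hDcomm N hDN hpN (fx ρ Q ⊓ (fx ρ Q).map (ρ x)) (by
    have hle : D ≤ ⨅ w : (fx ρ Q ⊓ (fx ρ Q).map (ρ x) : Submodule (ZMod p) U), stab ρ (w : U) := by
      rw [hD, Subgroup.closure_le]
      rintro _ ⟨q, _, rfl⟩
      rw [SetLike.mem_coe, Subgroup.mem_iInf]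
      rintro ⟨w, hw1, w', hw', rfl⟩
      rw [mem_stab]
      change ρ (τ q * x * (τ q)⁻¹ * x⁻¹) (ρ x w') = ρ x w'
      rw [mul_ap, mul_ap, mul_ap, inv_ap_ap, hw' _ (inv_mem (hτ q))]
      exact hw1 _ (hτ q)
    intro d hd w hw
    have := hle hd
    rw [Subgroup.mem_iInf] at this
    exact this ⟨w, hw⟩)
  have h3 := card_quot_inf (fx ρ Q) ((fx ρ Q).map (ρ x))
  rw [card_map_quot] at h3
  have h4 := card_quot_le ρ h
  rw [← hm] at h4
  have h5 : r ^ (m - 1) ≤ m ^ 2 := by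
    rw [pow_two]
    exact h1.trans (h2.trans (h3.trans (Nat.mul_le_mul h4 h4)))
  -- `p ≤ m`
  have hmp : ∃ k, m = p ^ k := by
    have hQp : IsPGroup p Q := isPGroup_of_exp (fun a ha => h.exp a (h.QA ha))
    obtain ⟨n, hn⟩ := IsPGroup.iff_card.1 hQp
    have h6 : m ∣ Nat.card Q := Subgroup.relIndex_dvd_card _ _
    rw [hn] at h6
    obtain ⟨k, _, hk⟩ := (Nat.dvd_prime_pow hp).1 h6
    exact ⟨k, hk⟩
  obtain ⟨k, hk⟩ := hmp
  have hk0 : k ≠ 0 := by
    intro hk0
    rw [hk0, pow_zero] at hk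
    exact hQC (Subgroup.relIndex_eq_one.1 hk)
  have hpm : p ≤ m := by
    rw [hk]
    exact Nat.le_self_pow hk0 p
  have h6 := numer (r := r) (m := m) (hp.two_le.trans hpm)
    (hr5.imp id (fun h => ⟨h.1, h.2.trans hpm⟩))
  exact absurd h5 (not_le.2 h6)

end Cfsg.Agent.H281.PGV
end

-- part: H281/PGV/Simple
section
set_option autoImplicit false
set_option linter.unusedSectionVars false

/-! # P(G,V): finite simple modules -/

namespace Cfsg.Agent.H281.PGV

universe u v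

section factor

variable {R : Type*} [Ring R] {X Y Z : Type*} [AddCommGroup X] [AddCommGroup Y] [AddCommGroup Z]
  [Module R X] [Module R Y] [Module R Z]

theorem exists_factor (f : X →ₗ[R] Y) (g : X →ₗ[R] Z) (hf : Function.Surjective f)
    (h : LinearMap.ker f ≤ LinearMap.ker g) : ∃ φ : Y →ₗ[R] Z, ∀ x, φ (f x) = g x := by
  let e := f.quotKerEquivOfSurjective hf
  refine ⟨(LinearMap.ker f).liftQ g h ∘ₗ e.symm.toLinearMap, fun x => ?_⟩
  have h1 : e.symm (f x) = (LinearMap.ker f).mkQ x := by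
    rw [LinearEquiv.symm_apply_eq]
    rfl
  change (LinearMap.ker f).liftQ g h (e.symm (f x)) = g x
  rw [h1]
  rfl

end factor

section simple

variable {R : Type*} [Ring R] {U : Type*} [AddCommGroup U] [Module R U]

/-- Schur and Wedderburn -/
theorem end_comm {M : Type*} [AddCommGroup M] [Module R M] [Finite M] [IsSimpleModule R M]
    (f g : Module.End R M) : f * g = g * f := by
  classical
  have : Finite (Module.End R M) := DFunLike.finite _
  have h := Finite.isField_of_domain (Module.End R M)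
  exact h.mul_comm f g

theorem end_comm_ap {M : Type*} [AddCommGroup M] [Module R M] [Finite M] [IsSimpleModule R M]
    (f g : Module.End R M) (m : M) : f (g m) = g (f m) :=
  LinearMap.congr_fun (end_comm f g) m

theorem end_surj {M : Type*} [AddCommGroup M] [Module R M] [IsSimpleModule R M]
    {f : Module.End R M} (hf : f ≠ 0) : ∃ g : Module.End R M, g * f = 1 ∧ f * g = 1 := by
  have h := LinearMap.bijective_of_ne_zero hf
  let e := LinearEquiv.ofBijective f h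
  refine ⟨e.symm.toLinearMap, ?_, ?_⟩
  · apply LinearMap.ext
    intro x
    exact e.symm_apply_apply x
  · apply LinearMap.ext
    intro x
    exact e.apply_symm_apply x

theorem exists_smul_eq (M : Submodule R U) [IsSimpleModule R M] {u m : U} (hu : u ∈ M) (hu0 : u ≠ 0)
    (hm : m ∈ M) : ∃ s : R, s • u = m := by
  have h1 : Submodule.span R {(⟨u, hu⟩ : M)} = ⊤ := by
    rcases IsSimpleOrder.eq_bot_or_eq_top (Submodule.span R {(⟨u, hu⟩ : M)}) with h | h
    · exfalso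
      apply hu0
      rw [Submodule.span_singleton_eq_bot] at h
      exact congrArg Subtype.val h
    · exact h
  have h2 : (⟨m, hm⟩ : M) ∈ Submodule.span R {(⟨u, hu⟩ : M)} := h1 ▸ Submodule.mem_top
  obtain ⟨s, hs⟩ := Submodule.mem_span_singleton.1 h2
  exact ⟨s, congrArg Subtype.val hs⟩

/-- a homomorphism between cyclic modules from an inclusion of annihilators -/
theorem exists_hom {M : Type*} [AddCommGroup M] [Module R M] {N : Type*} [AddCommGroup N] [Module R N]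
    (u : M) (hgen : ∀ m : M, ∃ s : R, s • u = m) (w : N) (h : ∀ y : R, y • u = 0 → y • w = 0) :
    ∃ φ : M →ₗ[R] N, ∀ s : R, φ (s • u) = s • w := by
  obtain ⟨φ, hφ⟩ := exists_factor (LinearMap.toSpanSingleton R M u) (LinearMap.toSpanSingleton R N w)
    (fun m => by
      obtain ⟨s, hs⟩ := hgen m
      exact ⟨s, by rw [LinearMap.toSpanSingleton_apply, hs]⟩)
    (fun y hy => by
      rw [LinearMap.mem_ker, LinearMap.toSpanSingleton_apply] at hy ⊢
      exact h y hy)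
  refine ⟨φ, fun s => ?_⟩
  have := hφ s
  rwa [LinearMap.toSpanSingleton_apply, LinearMap.toSpanSingleton_apply] at this

/-- if the annihilator of a generator of a finite simple module is two-sided, the ring acts
commutatively -/
theorem comm_of_J1 [Finite U] (M : Submodule R U) [IsSimpleModule R M] {u : U} (hu : u ∈ M)
    (hu0 : u ≠ 0) (hJ : ∀ y x : R, y • u = 0 → y • x • u = 0) (x x' : R) :
    x • x' • u = x' • x • u := by
  have hgen : ∀ m : M, ∃ s : R, s • (⟨u, hu⟩ : M) = m := by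
    intro m
    obtain ⟨s, hs⟩ := exists_smul_eq M hu hu0 m.2
    exact ⟨s, Subtype.ext hs⟩
  have hφ : ∀ x : R, ∃ φ : M →ₗ[R] M, ∀ s : R, φ (s • (⟨u, hu⟩ : M)) = s • x • (⟨u, hu⟩ : M) := by
    intro x
    apply exists_hom _ hgen
    intro y hy
    apply Subtype.ext
    exact hJ y x (congrArg Subtype.val hy)
  obtain ⟨φ, h1⟩ := hφ x
  obtain ⟨ψ, h2⟩ := hφ x'
  have h3 := end_comm (R := R) (M := M) φ ψ
  have h4 : φ (ψ ((1 : R) • (⟨u, hu⟩ : M))) = ψ (φ ((1 : R) • (⟨u, hu⟩ : M))) :=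
    LinearMap.congr_fun h3 _
  rw [h1, h2, one_smul, one_smul, h1, h2] at h4
  exact (congrArg Subtype.val h4).symm

theorem dvd_card_of_exp {H : Type*} [AddCommGroup H] [Finite H] {p : ℕ} (hp : p.Prime)
    (hexp : ∀ h : H, p • h = 0) {h : H} (hh : h ≠ 0) : p ∣ Nat.card H := by
  have h1 : addOrderOf h ∣ p := addOrderOf_dvd_of_nsmul_eq_zero (hexp h)
  rcases (Nat.dvd_prime hp).1 h1 with h2 | h2
  · exact absurd (AddMonoid.addOrderOf_eq_one_iff.1 h2) hh
  · rw [← h2]; exact addOrderOf_dvd_natCard h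

theorem range_eq_of_simple {M₀ : Type*} [AddCommGroup M₀] [Module R M₀] [IsSimpleModule R M₀]
    {e : Module.End R M₀} (he : e ≠ 0) : LinearMap.range e = ⊤ :=
  LinearMap.range_eq_top.2 (LinearMap.bijective_of_ne_zero he).2

/-- the number of submodules isomorphic to a given simple module is `1` modulo `p` -/
theorem card_iso_submodules [Finite U] (M₀ : Submodule R U) [IsSimpleModule R M₀] {p : ℕ}
    (hp : p.Prime) (hexp : ∀ h : U, p • h = 0) :
    Nat.card {M : Submodule R U // Nonempty (M₀ ≃ₗ[R] M)} ≡ 1 [MOD p] := by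
  classical
  have hfH : Finite (M₀ →ₗ[R] U) := DFunLike.finite _
  have hfE : Finite (Module.End R M₀) := DFunLike.finite _
  set 𝓜 := {M : Submodule R U // Nonempty (M₀ ≃ₗ[R] M)} with h𝓜
  let φ : ∀ M : 𝓜, M₀ ≃ₗ[R] M.1 := fun M => Classical.choice M.2
  have hnt : Nontrivial M₀ := IsSimpleModule.nontrivial R M₀
  obtain ⟨m₀, hm₀⟩ := exists_ne (0 : M₀)
  -- the bijection
  have hrange : ∀ (M : 𝓜) (e : Module.End R M₀), e ≠ 0 →
      LinearMap.range (M.1.subtype ∘ₗ (φ M).toLinearMap ∘ₗ e) = M.1 := by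
    intro M e he
    rw [LinearMap.range_comp, LinearMap.range_comp, range_eq_of_simple he, Submodule.map_top,
      LinearEquiv.range, Submodule.map_top, Submodule.range_subtype]
  have hne : ∀ (M : 𝓜) (e : Module.End R M₀), e ≠ 0 → M.1.subtype ∘ₗ (φ M).toLinearMap ∘ₗ e ≠ 0 := by
    intro M e he h0
    apply he
    apply LinearMap.ext
    intro x
    have h1 := LinearMap.congr_fun h0 x
    have h2 : (φ M (e x) : U) = 0 := h1
    have h3 : φ M (e x) = 0 := Subtype.ext h2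
    rw [LinearMap.zero_apply]
    exact (LinearEquiv.map_eq_zero_iff _).1 h3
  let F : 𝓜 × {e : Module.End R M₀ // e ≠ 0} → {h : M₀ →ₗ[R] U // h ≠ 0} :=
    fun Me => ⟨Me.1.1.subtype ∘ₗ (φ Me.1).toLinearMap ∘ₗ Me.2.1, hne _ _ Me.2.2⟩
  have hF : Function.Bijective F := by
    constructor
    · rintro ⟨M, e, he⟩ ⟨M', e', he'⟩ h
      have h1 : M.1.subtype ∘ₗ (φ M).toLinearMap ∘ₗ e = M'.1.subtype ∘ₗ (φ M').toLinearMap ∘ₗ e' :=
        congrArg Subtype.val h
      have h2 : M = M' := by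
        apply Subtype.ext
        rw [← hrange M e he, ← hrange M' e' he', h1]
      subst h2
      have h3 : e = e' := by
        apply LinearMap.ext
        intro x
        have h4 := LinearMap.congr_fun h1 x
        have h5 : φ M (e x) = φ M (e' x) := Subtype.ext h4
        exact (φ M).injective h5
      subst h3
      rfl
    · rintro ⟨h, hh⟩
      have hinj : Function.Injective h := LinearMap.injective_of_ne_zero hh
      let e₀ : M₀ ≃ₗ[R] LinearMap.range h := LinearEquiv.ofInjective h hinj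
      let M : 𝓜 := ⟨LinearMap.range h, ⟨e₀⟩⟩
      let e : Module.End R M₀ := (φ M).symm.toLinearMap ∘ₗ e₀.toLinearMap
      have he : e ≠ 0 := by
        intro h0
        have h1 : (φ M).symm (e₀ m₀) = 0 := LinearMap.congr_fun h0 m₀
        rw [LinearEquiv.map_eq_zero_iff, LinearEquiv.map_eq_zero_iff] at h1
        exact hm₀ h1
      refine ⟨⟨M, e, he⟩, ?_⟩
      apply Subtype.ext
      apply LinearMap.ext
      intro x
      change ((φ M ((φ M).symm (e₀ x)) : M.1) : U) = h x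
      rw [LinearEquiv.apply_symm_apply]
      rfl
  have hcard := Nat.card_congr (Equiv.ofBijective F hF)
  rw [Nat.card_prod] at hcard
  have hsub : ∀ (H : Type _) [AddCommGroup H] [Finite H], Nat.card {h : H // h ≠ 0} + 1 = Nat.card H := by
    intro H _ _
    have : Fintype H := Fintype.ofFinite H
    rw [Nat.card_eq_fintype_card, Nat.card_eq_fintype_card, Fintype.card_subtype_compl,
      Fintype.card_subtype_eq]
    exact Nat.sub_add_cancel Fintype.card_pos
  have hH := hsub (M₀ →ₗ[R] U)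
  have hE : Nat.card {h : Module.End R M₀ // h ≠ 0} + 1 = Nat.card (Module.End R M₀) := by
    have : Fintype (Module.End R M₀) := Fintype.ofFinite _
    rw [Nat.card_eq_fintype_card, Nat.card_eq_fintype_card, Fintype.card_subtype_compl,
      Fintype.card_subtype_eq]
    exact Nat.sub_add_cancel Fintype.card_pos
  have hpH : p ∣ Nat.card (M₀ →ₗ[R] U) := by
    apply dvd_card_of_exp hp (h := M₀.subtype)
    · intro h
      apply LinearMap.ext
      intro x
      rw [LinearMap.smul_apply, hexp, LinearMap.zero_apply]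
    · intro h0
      apply hm₀
      have := LinearMap.congr_fun h0 m₀
      exact Subtype.ext this
  have hpE : p ∣ Nat.card (Module.End R M₀) := by
    apply dvd_card_of_exp hp (h := (1 : Module.End R M₀))
    · intro h
      apply LinearMap.ext
      intro x
      apply Subtype.ext
      rw [LinearMap.smul_apply, LinearMap.zero_apply]
      exact hexp _
    · exact one_ne_zero
  rw [← hH, ← hcard] at hpH
  rw [← hE] at hpE
  -- arithmetic
  have h1 : (Nat.card 𝓜 * Nat.card {e : Module.End R M₀ // e ≠ 0} + 1) + Nat.card 𝓜 =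
      Nat.card 𝓜 * (Nat.card {e : Module.End R M₀ // e ≠ 0} + 1) + 1 := by ring
  have h2 : (Nat.card 𝓜 * Nat.card {e : Module.End R M₀ // e ≠ 0} + 1) + Nat.card 𝓜 ≡ 0 + Nat.card 𝓜 [MOD p] :=
    Nat.ModEq.add_right _ ((Nat.modEq_zero_iff_dvd).2 hpH)
  have h3 : Nat.card 𝓜 * (Nat.card {e : Module.End R M₀ // e ≠ 0} + 1) + 1 ≡ 0 + 1 [MOD p] :=
    Nat.ModEq.add_right _ ((Nat.modEq_zero_iff_dvd).2 (hpE.mul_left _))
  rw [h1] at h2
  have h4 := h2.symm.trans h3
  rwa [zero_add, zero_add] at h4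

end simple

section perfect

theorem derived_top {K : Type*} [Group K] (hK : commutator K = ⊤) (n : ℕ) : derivedSeries K n = ⊤ := by
  induction n with
  | zero => rfl
  | succ n ih => rw [derivedSeries_succ, ih]; exact hK

/-- homomorphisms of perfect groups into soluble groups are trivial -/
theorem hom_trivial {K P : Type*} [Group K] [Group P] (hK : commutator K = ⊤)
    (hP : Group.IsSolvable P) (f : K →* P) (x : K) : f x = 1 := by
  obtain ⟨n, hn⟩ := hP
  have h1 := map_derivedSeries_le_derivedSeries f n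
  rw [derived_top hK n, hn, le_bot_iff] at h1
  have h2 : f x ∈ (⊤ : Subgroup K).map f := Subgroup.mem_map_of_mem f (Subgroup.mem_top x)
  rw [h1] at h2
  exact Subgroup.mem_bot.1 h2

theorem perm_solvable {X : Type u} [Finite X] (hX : Nat.card X ≤ 4) : Group.IsSolvable (Equiv.Perm X) := by
  classical
  have : Fintype X := Fintype.ofFinite X
  apply SolvableStructure.HallConverse.isSolvable_of_no_three_primes
  have h1 : Nat.card (Equiv.Perm X) ∣ 24 := by
    rw [Nat.card_eq_fintype_card, Fintype.card_perm]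
    rw [Nat.card_eq_fintype_card] at hX
    exact (Nat.factorial_dvd_factorial hX)
  have h2 : (Nat.card (Equiv.Perm X)).primeFactors ⊆ {2, 3} := by
    refine (Nat.primeFactors_mono h1 (by norm_num)).trans ?_
    intro r hr
    have h3 := Nat.prime_of_mem_primeFactors hr
    have h4 := Nat.dvd_of_mem_primeFactors hr
    have h5 : (24 : ℕ) = 2 ^ 3 * 3 := by norm_num
    rw [h5] at h4
    rcases (Nat.Prime.dvd_mul h3).1 h4 with h6 | h6
    · have := (Nat.prime_dvd_prime_iff_eq h3 Nat.prime_two).1 (h3.dvd_of_dvd_pow h6)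
      simp [this]
    · have := (Nat.prime_dvd_prime_iff_eq h3 Nat.prime_three).1 h6
      simp [this]
  exact (Finset.card_le_card h2).trans (Finset.card_le_two)

end perfect

end Cfsg.Agent.H281.PGV
end

-- part: H281/PGV/Env
section
set_option autoImplicit false
set_option linter.unusedSectionVars false

/-! # P(G,V): the enveloping algebra of `K` -/

namespace Cfsg.Agent.H281.PGV

universe u v

variable {p : ℕ} {G : Type u} {U : Type v} [Group G] [AddCommGroup U] [Module (ZMod p) U]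
variable (ρ : Representation (ZMod p) G U)

/-- the enveloping algebra -/
abbrev Sg (K : Subgroup G) : Subalgebra (ZMod p) (Module.End (ZMod p) U) :=
  Algebra.adjoin (ZMod p) (ρ '' (K : Set G))

/-- the enveloping algebra as a type -/
def SgT (K : Subgroup G) : Type v := ↥(Sg ρ K)

instance SgT.ring (K : Subgroup G) : Ring (SgT ρ K) := inferInstanceAs (Ring ↥(Sg ρ K))

/-- constructor -/
def SgT.mk {K : Subgroup G} (s : Module.End (ZMod p) U) (hs : s ∈ Sg ρ K) : SgT ρ K :=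
  (⟨s, hs⟩ : ↥(Sg ρ K))

/-- the underlying operator -/
def SgT.op {K : Subgroup G} (s : SgT ρ K) : Module.End (ZMod p) U := Subtype.val (show ↥(Sg ρ K) from s)

theorem SgT.op_mem {K : Subgroup G} (s : SgT ρ K) : s.op ρ ∈ Sg ρ K := Subtype.property (show ↥(Sg ρ K) from s)

instance SgT.module (K : Subgroup G) : Module (SgT ρ K) U where
  smul s u := s.op ρ u
  one_smul _ := rfl
  mul_smul _ _ _ := rfl
  smul_zero s := map_zero (s.op ρ)
  smul_add s := map_add (s.op ρ)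
  add_smul _ _ _ := rfl
  zero_smul _ := rfl

theorem SgT.mk_smul {K : Subgroup G} {s : Module.End (ZMod p) U} (hs : s ∈ Sg ρ K) (u : U) :
    SgT.mk ρ s hs • u = s u := rfl

theorem SgT.smul_def {K : Subgroup G} (s : SgT ρ K) (u : U) : s • u = s.op ρ u := rfl

theorem rho_mem {K : Subgroup G} {k : G} (hk : k ∈ K) : ρ k ∈ Sg ρ K :=
  Algebra.subset_adjoin ⟨k, hk, rfl⟩

theorem commute_Sg {K : Subgroup G} {T : Module.End (ZMod p) U} (hT : ∀ k ∈ K, T * ρ k = ρ k * T) :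
    ∀ s ∈ Sg ρ K, T * s = s * T := by
  intro s hs
  induction hs using Algebra.adjoin_induction with
  | mem x hx =>
    obtain ⟨k, hk, rfl⟩ := hx
    exact hT k hk
  | algebraMap r => exact (Algebra.commutes r T).symm
  | add x y _ _ h1 h2 => rw [mul_add, add_mul, h1, h2]
  | mul x y _ _ h1 h2 => rw [← mul_assoc, h1, mul_assoc, h2, mul_assoc]

theorem rho_inv_mul (b : G) : ρ b⁻¹ * ρ b = 1 := by rw [← map_mul, inv_mul_cancel, map_one]

theorem rho_mul_inv (b : G) : ρ b * ρ b⁻¹ = 1 := by rw [← map_mul, mul_inv_cancel, map_one]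

theorem conj_Sg {K : Subgroup G} {b : G} (hb : b ∈ Subgroup.normalizer (K : Set G)) :
    ∀ s ∈ Sg ρ K, ρ b * s * ρ b⁻¹ ∈ Sg ρ K := by
  intro s hs
  induction hs using Algebra.adjoin_induction with
  | mem x hx =>
    obtain ⟨k, hk, rfl⟩ := hx
    rw [← map_mul, ← map_mul]
    exact rho_mem ρ ((Subgroup.mem_normalizer_iff.1 hb k).1 hk)
  | algebraMap r =>
    rw [← Algebra.commutes, mul_assoc, rho_mul_inv, mul_one]
    exact Subalgebra.algebraMap_mem _ r
  | add x y _ _ h1 h2 =>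
    rw [mul_add, add_mul]
    exact add_mem h1 h2
  | mul x y _ _ h1 h2 =>
    have : ρ b * (x * y) * ρ b⁻¹ = (ρ b * x * ρ b⁻¹) * (ρ b * y * ρ b⁻¹) := by
      calc ρ b * (x * y) * ρ b⁻¹ = ρ b * x * (1 * (y * ρ b⁻¹)) := by rw [one_mul]; simp only [mul_assoc]
        _ = ρ b * x * ((ρ b⁻¹ * ρ b) * (y * ρ b⁻¹)) := by rw [rho_inv_mul]
        _ = _ := by simp only [mul_assoc]
    rw [this]
    exact mul_mem h1 h2

theorem conj_comm {K : Subgroup G} {a : G}
    (ha : ∀ x ∈ K, ∀ y ∈ K, (a * x * a⁻¹) * y = y * (a * x * a⁻¹)) :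
    ∀ s ∈ Sg ρ K, ∀ t ∈ Sg ρ K, (ρ a * s * ρ a⁻¹) * t = t * (ρ a * s * ρ a⁻¹) := by
  intro s hs
  apply commute_Sg
  intro k hk
  induction hs using Algebra.adjoin_induction with
  | mem x hx =>
    obtain ⟨x, hx, rfl⟩ := hx
    rw [← map_mul, ← map_mul, ← map_mul, ← map_mul, ha x hx k hk]
  | algebraMap r =>
    rw [← Algebra.commutes, mul_assoc _ (ρ a), rho_mul_inv, mul_one]
    exact Algebra.commutes _ _
  | add x y _ _ h1 h2 => rw [mul_add, add_mul, add_mul, mul_add, h1, h2]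
  | mul x y _ _ h1 h2 =>
    have : ρ a * (x * y) * ρ a⁻¹ = (ρ a * x * ρ a⁻¹) * (ρ a * y * ρ a⁻¹) := by
      calc ρ a * (x * y) * ρ a⁻¹ = ρ a * x * (1 * (y * ρ a⁻¹)) := by rw [one_mul]; simp only [mul_assoc]
        _ = ρ a * x * ((ρ a⁻¹ * ρ a) * (y * ρ a⁻¹)) := by rw [rho_inv_mul]
        _ = _ := by simp only [mul_assoc]
    rw [this, mul_assoc, h2, ← mul_assoc, h1, mul_assoc]

/-- an operator commuting with the enveloping algebra as a linear map -/
def toLin {K : Subgroup G} (T : Module.End (ZMod p) U) (hT : ∀ s ∈ Sg ρ K, T * s = s * T) :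
    U →ₗ[SgT ρ K] U where
  toFun := T
  map_add' := map_add T
  map_smul' := fun s u => LinearMap.congr_fun (hT (s.op ρ) s.op_mem) u

/-- a `K`-invariant subspace as a submodule for the enveloping algebra -/
def ofInv {K : Subgroup G} (Y : Submodule (ZMod p) U) (hY : ∀ x ∈ K, ∀ y ∈ Y, ρ x y ∈ Y) :
    Submodule (SgT ρ K) U where
  carrier := Y
  add_mem' := fun {a b} ha hb => Y.add_mem ha hb
  zero_mem' := Y.zero_mem
  smul_mem' := by
    intro s' y hy
    have hs := s'.op_mem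
    rw [SgT.smul_def]
    generalize s'.op ρ = s at hs
    induction hs using Algebra.adjoin_induction generalizing y with
    | mem x hx =>
      obtain ⟨k, hk, rfl⟩ := hx
      exact hY k hk y hy
    | algebraMap r =>
      rw [Algebra.algebraMap_eq_smul_one]
      exact Y.smul_mem _ hy
    | add x z _ _ h1 h2 => exact Y.add_mem (h1 hy) (h2 hy)
    | mul x z _ _ h1 h2 => exact h1 (h2 hy)

theorem mem_ofInv {K : Subgroup G} {Y : Submodule (ZMod p) U} {hY : ∀ x ∈ K, ∀ y ∈ Y, ρ x y ∈ Y}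
    {y : U} : y ∈ ofInv ρ Y hY ↔ y ∈ Y := Iff.rfl

/-- the underlying subspace -/
def toSub {K : Subgroup G} (M : Submodule (SgT ρ K) U) : Submodule (ZMod p) U where
  carrier := M
  add_mem' := fun {a b} ha hb => M.add_mem ha hb
  zero_mem' := M.zero_mem
  smul_mem' := fun c x hx => by
    have := M.smul_mem (SgT.mk ρ (algebraMap (ZMod p) (Module.End (ZMod p) U) c)
      (Subalgebra.algebraMap_mem _ c)) hx
    rwa [SgT.mk_smul, Algebra.algebraMap_eq_smul_one] at this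

theorem mem_toSub {K : Subgroup G} {M : Submodule (SgT ρ K) U} {y : U} : y ∈ toSub ρ M ↔ y ∈ M := Iff.rfl

theorem rho_mem_of_mem {K : Subgroup G} (M : Submodule (SgT ρ K) U) {k : G} (hk : k ∈ K) {m : U}
    (hm : m ∈ M) : ρ k m ∈ M := M.smul_mem (SgT.mk ρ (ρ k) (rho_mem ρ hk)) hm

theorem le_or_disj {R : Type*} [Ring R] {U : Type*} [AddCommGroup U] [Module R U]
    (M N : Submodule R U) [hM : IsSimpleModule R M] : M ≤ N ∨ M ⊓ N = ⊥ := by
  have h1 := isSimpleModule_iff_isAtom.1 hM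
  rcases (h1.le_iff (x := M ⊓ N)).1 inf_le_left with h | h
  · exact Or.inr h
  · exact Or.inl (h ▸ inf_le_right)

/-- no fixed vectors in a nontrivial simple module -/
theorem no_fix {K : Subgroup G} (M : Submodule (SgT ρ K) U) [IsSimpleModule (SgT ρ K) M]
    (hM : ∃ x ∈ K, ∃ m ∈ M, ρ x m ≠ m) {u : U} (hu : u ∈ M) (hfix : ∀ x ∈ K, ρ x u = u) : u = 0 := by
  rcases le_or_disj M (ofInv ρ (fx ρ K) (fun x hx y hy => by rw [hy x hx]; exact hy)) with h | h
  · obtain ⟨x, hx, m, hm, hne⟩ := hM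
    exact absurd (h hm x hx) hne
  · have h1 : u ∈ M ⊓ (ofInv ρ (fx ρ K) (fun x hx y hy => by rw [hy x hx]; exact hy)) := ⟨hu, hfix⟩
    rw [h] at h1
    exact (Submodule.mem_bot _).1 h1

/-- restriction of a commuting operator to a simple submodule -/
theorem restr {K : Subgroup G} (M : Submodule (SgT ρ K) U) [IsSimpleModule (SgT ρ K) M]
    {u : U} (hu : u ∈ M) (hu0 : u ≠ 0) {T : Module.End (ZMod p) U}
    (hT : ∀ s ∈ Sg ρ K, T * s = s * T) (hTu : T u ∈ M) :
    ∃ e : Module.End (SgT ρ K) M, ∀ m : M, (e m : U) = T m := by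
  have h1 : ∀ m ∈ M, toLin ρ T hT m ∈ M := by
    intro m hm
    obtain ⟨s, rfl⟩ := exists_smul_eq M hu hu0 hm
    rw [map_smul]
    exact M.smul_mem _ hTu
  exact ⟨(toLin ρ T hT).restrict h1, fun m => rfl⟩

end Cfsg.Agent.H281.PGV
end

-- part: H281/PGV/CaseOne
section
set_option autoImplicit false
set_option linter.unusedSectionVars false

/-! # P(G,V): quadratic elements normalising `K` -/

namespace Cfsg.Agent.H281.PGV

universe u v

variable {p : ℕ} {G : Type u} {U : Type v} [Group G] [AddCommGroup U] [Module (ZMod p) U]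
variable (ρ : Representation (ZMod p) G U)

theorem quad' {K A Q C : Subgroup G} (h : Cfg ρ K A Q C) {b a : G} (hb : b ∈ Q) (ha : a ∈ A) (v : U) :
    ρ a (ρ b v - v) = ρ b v - v := by
  have h1 := h.quad b hb a ha v
  rw [map_sub, ← mul_ap] at h1 ⊢
  rw [h.comm a ha b (h.QA hb)]
  rw [sub_eq_sub_iff_add_eq_add] at h1 ⊢
  rw [add_comm (ρ (b * a) v), add_comm v] at *
  rw [h1, add_comm]

variable [Finite G] [Finite U]

/-- the annihilator of a vector fixed by three non-normalising elements is two-sided -/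
theorem J1 {K A Q C : Subgroup G} (h : Cfg ρ K A Q C) {s t : G} (hs : s ∈ Q) (ht : t ∈ Q)
    (hs' : s ∉ Subgroup.normalizer (K : Set G)) (ht' : t ∉ Subgroup.normalizer (K : Set G))
    (hst : s * t ∉ Subgroup.normalizer (K : Set G)) {u : U} (hus : ρ s u = u) (hut : ρ t u = u)
    (y x : SgT ρ K) (hy : y • u = 0) : y • x • u = 0 := by
  have hyS := y.op_mem
  have hxS := x.op_mem
  rw [SgT.smul_def] at hy ⊢
  rw [SgT.smul_def]
  generalize y.op ρ = y at *
  generalize x.op ρ = x at *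
  have hinv : ∀ {a : G}, ρ a u = u → ρ a⁻¹ u = u := by
    intro a ha
    conv_lhs => rw [← ha]
    exact inv_ap_ap ρ a u
  have hust : ρ (s * t) u = u := by rw [mul_ap, hut, hus]
  have key : ∀ a ∈ A, a ∉ Subgroup.normalizer (K : Set G) → ρ a u = u → y (ρ a (x u)) = 0 := by
    intro a ha haN hau
    have h1 := conj_comm ρ ((h.conj a ha).resolve_left haN) x hxS y hyS
    have h2 := LinearMap.congr_fun h1 u
    change ρ a (x (ρ a⁻¹ (y u))) = y (ρ a (x (ρ a⁻¹ u))) at h2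
    rw [hinv hau, hy, map_zero, map_zero, map_zero] at h2
    exact h2.symm
  have k1 := key s (h.QA hs) hs' hus
  have k2 := key t (h.QA ht) ht' hut
  have k3 := key (s * t) (h.QA (mul_mem hs ht)) hst hust
  -- (s - 1)(t - 1) x u = 0
  have h3 := h.quad s hs t (h.QA ht) (x u)
  rw [map_sub, ← mul_ap] at h3
  have h4 : x u = ρ s (x u) + ρ t (x u) - ρ (s * t) (x u) := by
    have : ρ (s * t) (x u) = ρ t (x u) - x u + ρ s (x u) := by rw [← h3]; abel
    rw [this]; abel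
  rw [h4, map_sub, map_add, k1, k2, k3]
  simp

/-- a vector of a simple nontrivial module with the two-sided annihilator property vanishes -/
theorem zero_of_J1 {K : Subgroup G} (hK : ⁅K, K⁆ = K) (M : Submodule (SgT ρ K) U)
    [IsSimpleModule (SgT ρ K) M] (hM : ∃ x ∈ K, ∃ m ∈ M, ρ x m ≠ m) {u : U} (hu : u ∈ M)
    (hJ : ∀ y x : SgT ρ K, y • u = 0 → y • x • u = 0) : u = 0 := by
  by_contra hu0
  apply hu0
  apply no_fix ρ M hM hu
  apply perfect_fix ρ hK
  intro x hx y hy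
  exact comm_of_J1 M hu hu0 hJ (SgT.mk ρ (ρ x) (rho_mem ρ hx)) (SgT.mk ρ (ρ y) (rho_mem ρ hy))

theorem fix_in_Eu {K : Subgroup G} (M : Submodule (SgT ρ K) U) [IsSimpleModule (SgT ρ K) M]
    {u : U} (hu : u ∈ M) (hu0 : u ≠ 0) {a : G}
    (ha : ∀ x ∈ K, ∀ y ∈ K, (a * x * a⁻¹) * y = y * (a * x * a⁻¹)) (hau : ρ a u = u) {z : U}
    (hz : z ∈ M) (haz : ρ a z = z) : ∃ e : Module.End (SgT ρ K) M, (e ⟨u, hu⟩ : U) = z := by
  obtain ⟨s', hsu⟩ := exists_smul_eq M hu hu0 hz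
  have hs := s'.op_mem
  rw [SgT.smul_def] at hsu
  generalize s'.op ρ = s at *
  have hinv : ρ a⁻¹ u = u := by
    conv_lhs => rw [← hau]
    exact inv_ap_ap ρ a u
  have hTu : (ρ a * s * ρ a⁻¹) u = z := by
    change ρ a (s (ρ a⁻¹ u)) = z
    rw [hinv, hsu, haz]
  obtain ⟨e, he⟩ := restr ρ M hu hu0 (T := ρ a * s * ρ a⁻¹)
    (fun t ht => conj_comm ρ ha s hs t ht) (by rw [hTu]; exact hz)
  exact ⟨e, by rw [he, hTu]⟩

theorem end_ap {K : Subgroup G} {M : Submodule (SgT ρ K) U} (e : Module.End (SgT ρ K) M)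
    {s : Module.End (ZMod p) U} (hs : s ∈ Sg ρ K) (m : M) :
    (e ⟨s m.1, M.smul_mem (SgT.mk ρ s hs) m.2⟩ : U) = s (e m) :=
  congrArg Subtype.val (e.map_smul (SgT.mk ρ s hs) m)

/-- `M ≠ E u` -/
theorem exists_not_Eu {K : Subgroup G} (hK : ⁅K, K⁆ = K) (M : Submodule (SgT ρ K) U)
    [IsSimpleModule (SgT ρ K) M] (hM : ∃ x ∈ K, ∃ m ∈ M, ρ x m ≠ m)
    {u : U} (hu : u ∈ M) (hu0 : u ≠ 0) :
    ∃ w : M, ∀ e : Module.End (SgT ρ K) M, e ⟨u, hu⟩ ≠ w := by
  by_contra hcon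
  push Not at hcon
  apply hu0
  apply no_fix ρ M hM hu
  apply perfect_fix ρ hK
  intro x hx y hy
  obtain ⟨e, he⟩ := hcon ⟨ρ x u, rho_mem_of_mem ρ M hx hu⟩
  obtain ⟨f, hf⟩ := hcon ⟨ρ y u, rho_mem_of_mem ρ M hy hu⟩
  have h1 : ρ x (ρ y u) = f (e ⟨u, hu⟩) := by
    rw [he]
    have h2 := end_ap ρ f (rho_mem ρ hx) ⟨u, hu⟩
    rw [hf] at h2
    exact h2.symm
  have h2 : ρ y (ρ x u) = e (f ⟨u, hu⟩) := by
    rw [hf]
    have h2 := end_ap ρ e (rho_mem ρ hy) ⟨u, hu⟩
    rw [he] at h2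
    exact h2.symm
  rw [h1, h2]
  exact congrArg Subtype.val (end_comm_ap f e _)

/-- conjugation of endomorphisms -/
theorem conj_end {K : Subgroup G} (M : Submodule (SgT ρ K) U) {b : G}
    (hb : b ∈ Subgroup.normalizer (K : Set G)) (hbM : ∀ m ∈ M, ρ b m ∈ M)
    (hbM' : ∀ m ∈ M, ρ b⁻¹ m ∈ M) (e : Module.End (SgT ρ K) M) :
    ∃ e' : Module.End (SgT ρ K) M, ∀ m : M, (e' m : U) = ρ b (e ⟨ρ b⁻¹ m.1, hbM' _ m.2⟩) := by
  refine ⟨{ toFun := fun m => ⟨ρ b (e ⟨ρ b⁻¹ m.1, hbM' _ m.2⟩), hbM _ (e _).2⟩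
            map_add' := ?_
            map_smul' := ?_ }, fun m => rfl⟩
  · intro m n
    apply Subtype.ext
    change ρ b (e ⟨ρ b⁻¹ (m.1 + n.1), _⟩) = ρ b (e ⟨ρ b⁻¹ m.1, _⟩) + ρ b (e ⟨ρ b⁻¹ n.1, _⟩)
    have : (⟨ρ b⁻¹ (m.1 + n.1), hbM' _ (m + n).2⟩ : M) =
        ⟨ρ b⁻¹ m.1, hbM' _ m.2⟩ + ⟨ρ b⁻¹ n.1, hbM' _ n.2⟩ := Subtype.ext (map_add _ _ _)
    rw [this, map_add, Submodule.coe_add, map_add]
  · intro s' m
    have hs := s'.op_mem
    apply Subtype.ext
    change ρ b (e ⟨ρ b⁻¹ (s'.op ρ m.1), _⟩) = s'.op ρ (ρ b (e ⟨ρ b⁻¹ m.1, _⟩))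
    have hs' : ρ b⁻¹ * s'.op ρ * ρ b ∈ Sg ρ K := by
      have := conj_Sg ρ (inv_mem hb) _ hs
      rwa [inv_inv] at this
    have h1 := end_ap ρ e hs' ⟨ρ b⁻¹ m.1, hbM' _ m.2⟩
    have h2 : (ρ b⁻¹ * s'.op ρ * ρ b) (ρ b⁻¹ m.1) = ρ b⁻¹ (s'.op ρ m.1) := by
      change ρ b⁻¹ (s'.op ρ (ρ b (ρ b⁻¹ m.1))) = _
      rw [ap_inv_ap]
    simp only [h2] at h1
    rw [h1]
    change ρ b (ρ b⁻¹ (s'.op ρ (ρ b (e ⟨ρ b⁻¹ m.1, _⟩)))) = _
    rw [ap_inv_ap]

/-- elements of `B` act `E`-linearly -/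
theorem lin_end {K A Q C : Subgroup G} (h : Cfg ρ K A Q C) (M : Submodule (SgT ρ K) U)
    [IsSimpleModule (SgT ρ K) M] (hM : ∃ x ∈ K, ∃ m ∈ M, ρ x m ≠ m)
    {u : U} (hu : u ∈ M) (hu0 : u ≠ 0) (huA : ∀ a ∈ A, ρ a u = u) {a₀ : G} (ha₀ : a₀ ∈ A)
    (ha₀K : a₀ ∉ Subgroup.normalizer (K : Set G)) {b : G} (hbQ : b ∈ Q)
    (hb : b ∈ Subgroup.normalizer (K : Set G)) (hbM : ∀ m ∈ M, ρ b m ∈ M)
    (hbM' : ∀ m ∈ M, ρ b⁻¹ m ∈ M) (e : Module.End (SgT ρ K) M) (m : M) :
    ρ b (e m) = e ⟨ρ b m, hbM m m.2⟩ := by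
  obtain ⟨e', he'⟩ := conj_end ρ M hb hbM hbM' e
  obtain ⟨w, hw⟩ := exists_not_Eu ρ h.perf M hM hu hu0
  -- `(b - 1) n ∈ E u`
  have hEu : ∀ n : M, ∃ f : Module.End (SgT ρ K) M, (f ⟨u, hu⟩ : U) = ρ b n - n := by
    intro n
    exact fix_in_Eu ρ M hu hu0 ((h.conj a₀ ha₀).resolve_left ha₀K) (huA a₀ ha₀)
      (M.sub_mem (hbM n n.2) n.2) (quad' ρ h hbQ ha₀ n)
  have hee : e' = e := by
    by_contra hne
    have hne' : e' - e ≠ 0 := sub_ne_zero.2 hne
    obtain ⟨g, hg, _⟩ := end_surj hne'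
    obtain ⟨f₁, hf₁⟩ := hEu (e w)
    obtain ⟨f₂, hf₂⟩ := hEu w
    apply hw (g * (f₁ - e' * f₂))
    have h1 : (e' - e) w = (f₁ - e' * f₂) ⟨u, hu⟩ := by
      apply Subtype.ext
      have h3 := he' ⟨ρ b w, hbM w w.2⟩
      have h4 : (⟨ρ b⁻¹ (ρ b w), hbM' _ (hbM w w.2)⟩ : M) = w := Subtype.ext (inv_ap_ap ρ b w.1)
      simp only at h3
      rw [h4] at h3
      -- e' (b w) = b (e w)
      have h5 : (f₂ ⟨u, hu⟩ : M) = ⟨ρ b w, hbM w w.2⟩ - w := Subtype.ext hf₂
      change (e' w : U) - (e w : U) = (f₁ ⟨u, hu⟩ : U) - (e' (f₂ ⟨u, hu⟩) : U)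
      rw [h5, map_sub, Submodule.coe_sub, h3, hf₁]
      abel
    have h2 : g ((e' - e) w) = w := LinearMap.congr_fun hg w
    change g ((f₁ - e' * f₂) ⟨u, hu⟩) = w
    rw [← h1, h2]
  rw [hee] at he'
  have h3 := he' ⟨ρ b m, hbM m m.2⟩
  have h4 : (⟨ρ b⁻¹ (ρ b m), hbM' _ (hbM m m.2)⟩ : M) = m := Subtype.ext (inv_ap_ap ρ b m.1)
  simp only at h3
  rw [h4] at h3
  exact h3.symm

/-- index bound from a map with small fibres -/
theorem relIndex_le_of_fib {B C : Subgroup G} {X : Type*} [Finite X] (f : G → X)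
    (hf : ∀ b ∈ B, ∀ b' ∈ B, f b = f b' → b⁻¹ * b' ∈ C) : C.relIndex B ≤ Nat.card X := by
  apply Nat.card_le_card_of_injective (fun q : B ⧸ C.subgroupOf B => f q.out.1)
  intro q q' hqq
  rw [← QuotientGroup.out_eq' q, ← QuotientGroup.out_eq' q', QuotientGroup.eq]
  exact hf _ q.out.2 _ q'.out.2 hqq

theorem card_dual [Fact p.Prime] (W : Type*) [AddCommGroup W] [Module (ZMod p) W] [Finite W] :
    Nat.card (Module.Dual (ZMod p) W) = Nat.card W := by
  have : Module.Finite (ZMod p) W := Module.Finite.of_finite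
  rw [Module.natCard_eq_pow_finrank (K := ZMod p), Module.natCard_eq_pow_finrank (K := ZMod p) (V := W),
    Subspace.dual_finrank_eq]

theorem card_mod_le [Fact p.Prime] (W N Y : Submodule (ZMod p) U) (h : W ≤ N ⊔ Y) :
    Nat.card W ≤ Nat.card Y * Nat.card ↥(W ⊓ N) := by
  have h1 := card_sup_mul W N
  have h2 := card_sup_mul N Y
  have h3 : Nat.card ↥(W ⊔ N) ≤ Nat.card ↥(N ⊔ Y) := card_mono (sup_le h le_sup_left)
  have h4 : Nat.card ↥(N ⊔ Y) ≤ Nat.card N * Nat.card Y := by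
    rw [← h2]
    exact Nat.le_mul_of_pos_right _ Nat.card_pos
  have h5 : Nat.card W * Nat.card N ≤ (Nat.card N * Nat.card Y) * Nat.card ↥(W ⊓ N) := by
    rw [← h1]
    exact Nat.mul_le_mul_right _ (h3.trans h4)
  apply Nat.le_of_mul_le_mul_right _ (Nat.card_pos (α := N))
  calc _ ≤ _ := h5
    _ = _ := by ring

/-- the first count -/
theorem count1 [Fact p.Prime] {K A Q C : Subgroup G} (h : Cfg ρ K A Q C) (M : Submodule (SgT ρ K) U)
    [IsSimpleModule (SgT ρ K) M] (hM : ∃ x ∈ K, ∃ m ∈ M, ρ x m ≠ m)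
    {u : U} (hu : u ∈ M) (hu0 : u ≠ 0) (huA : ∀ a ∈ A, ρ a u = u) {a₀ : G} (ha₀ : a₀ ∈ A)
    (ha₀K : a₀ ∉ Subgroup.normalizer (K : Set G))
    (hBM : ∀ b ∈ Q ⊓ Subgroup.normalizer (K : Set G), ∀ m ∈ M, ρ b m ∈ M) :
    C.relIndex (Q ⊓ Subgroup.normalizer (K : Set G)) *
      Nat.card ↥(fx ρ (Q ⊓ Subgroup.normalizer (K : Set G)) ⊓ toSub ρ M) ≤ Nat.card M := by
  classical
  set B := Q ⊓ Subgroup.normalizer (K : Set G) with hB
  set Mf := toSub ρ M with hMf
  set CM := (fx ρ B).submoduleOf Mf with hCM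
  have hcm : Nat.card CM = Nat.card ↥(fx ρ B ⊓ Mf) := by
    have : Nat.card CM = Nat.card (CM.map Mf.subtype) :=
      Nat.card_congr (Submodule.equivMapOfInjective Mf.subtype Mf.subtype_injective CM).toEquiv
    rw [this, hCM, Submodule.submoduleOf, Submodule.map_comap_subtype, inf_comm]
  -- a functional not vanishing on `u`
  obtain ⟨lam, hlam⟩ : ∃ lam : Module.Dual (ZMod p) U, lam u ≠ 0 := by
    by_contra hcon
    push Not at hcon
    exact hu0 ((Module.forall_dual_apply_eq_zero_iff (ZMod p) u).1 hcon)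
  have hfq : Finite (Mf ⧸ CM) := Finite.of_surjective _ CM.mkQ_surjective
  have hdf : Finite (Module.Dual (ZMod p) (Mf ⧸ CM)) := by
    unfold Module.Dual
    exact DFunLike.finite _
  let f : G → Module.Dual (ZMod p) (Mf ⧸ CM) := fun b =>
    if hb : b ∈ B then CM.liftQ ((lam ∘ₗ (ρ b - 1)) ∘ₗ Mf.subtype) (by
      intro m hm
      rw [LinearMap.mem_ker]
      change lam (ρ b m.1 - m.1) = 0
      have : m.1 ∈ fx ρ B := hm
      rw [this b hb, sub_self, map_zero]) else 0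
  have hf : ∀ b (hb : b ∈ B) (m : Mf), f b (CM.mkQ m) = lam (ρ b m.1 - m.1) := by
    intro b hb m
    simp only [f, dif_pos hb]
    rfl
  have hrel := relIndex_le_of_fib (B := B) (C := C) f (by
    intro b hb b' hb' hbb
    have htB : b⁻¹ * b' ∈ B := mul_mem (inv_mem hb) hb'
    set t := b⁻¹ * b' with ht
    have h1 : ∀ m ∈ M, lam (ρ t m - m) = 0 := by
      intro m hm
      have h2 : f b (CM.mkQ ⟨m, hm⟩) = f b' (CM.mkQ ⟨m, hm⟩) := by rw [hbb]
      rw [hf b hb, hf b' hb'] at h2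
      simp only at h2
      have h3 : ρ b (ρ t m - m) = ρ t m - m := quad' ρ h htB.1 (h.QA hb.1) m
      have h4 : ρ b (ρ t m - m) = (ρ b' m - m) - (ρ b m - m) := by
        rw [map_sub, ← mul_ap, ht, mul_inv_cancel_left]; abel
      rw [← h3, h4, map_sub, h2, sub_self]
    apply h.faith t htB.1 htB.2 Mf (fun x hx m hm => rho_mem_of_mem ρ M hx hm) hM
    intro m hm
    by_contra hne
    have hEu := fix_in_Eu ρ M hu hu0 ((h.conj a₀ ha₀).resolve_left ha₀K) (huA a₀ ha₀)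
      (M.sub_mem (hBM t htB m hm) hm) (quad' ρ h htB.1 ha₀ m)
    obtain ⟨e, he⟩ := hEu
    have he0 : e ≠ 0 := by
      intro h0
      rw [h0] at he
      exact hne (sub_eq_zero.1 he.symm)
    obtain ⟨g, hg, _⟩ := end_surj he0
    have h2 := lin_end ρ h M hM hu hu0 huA ha₀ ha₀K htB.1 htB.2 (hBM t htB)
      (hBM t⁻¹ (inv_mem htB)) g ⟨m, hm⟩
    have h3 := h1 (g ⟨m, hm⟩) (g ⟨m, hm⟩).2
    rw [h2, ← Submodule.coe_sub, ← map_sub] at h3
    have h4 : (⟨ρ t m, hBM t htB m hm⟩ : M) - ⟨m, hm⟩ = e ⟨u, hu⟩ := Subtype.ext he.symm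
    have h5 : g (e ⟨u, hu⟩) = ⟨u, hu⟩ := LinearMap.congr_fun hg _
    simp only at h3
    rw [h4, h5] at h3
    exact hlam h3)
  rw [card_dual] at hrel
  have h6 : Nat.card M = Nat.card CM * Nat.card (Mf ⧸ CM) := Submodule.card_eq_card_quotient_mul_card CM
  rw [h6, hcm, mul_comm]
  exact Nat.mul_le_mul_left _ hrel

end Cfsg.Agent.H281.PGV
end

-- part: H281/PGV/BetaOne
section
set_option autoImplicit false
set_option linter.unusedSectionVars false

/-! # P(G,V): the case of a simple submodule invariant under the quadratic elements normalising `K` -/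

namespace Cfsg.Agent.H281.PGV

universe u v

variable {p : ℕ} {G : Type u} {U : Type v} [Group G] [AddCommGroup U] [Module (ZMod p) U]
variable (ρ : Representation (ZMod p) G U) [Finite G] [Finite U]

theorem exists_three {B Q : Subgroup G} (hBQ : B ≤ Q) (h3 : 3 ≤ B.relIndex Q) :
    ∃ s ∈ Q, ∃ t ∈ Q, s ∉ B ∧ t ∉ B ∧ s * t ∉ B := by
  have h1 : ¬ Q ≤ B := by
    intro h
    rw [Subgroup.relIndex_eq_one.2 h] at h3
    omega
  obtain ⟨s, hs, hsB⟩ := SetLike.not_le_iff_exists.1 h1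
  by_contra hcon
  push Not at hcon
  have h2 : (Q : Set G) ⊆ (B : Set G) ∪ ((fun x => s⁻¹ * x) '' (B : Set G)) := by
    intro t ht
    by_cases htB : t ∈ B
    · exact Or.inl htB
    · exact Or.inr ⟨s * t, hcon s hs t ht hsB htB, by simp⟩
  have h4 := (Set.ncard_le_ncard h2 (Set.toFinite _)).trans (Set.ncard_union_le _ _)
  have h5 := Set.ncard_image_le (f := fun x => s⁻¹ * x) (s := (B : Set G)) (Set.toFinite _)
  have h6 : Nat.card Q ≤ Nat.card B + Nat.card B := h4.trans (Nat.add_le_add_left h5 _)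
  have h7 := card_relIndex hBQ
  have h8 : 3 * Nat.card B ≤ Nat.card Q := by
    rw [← h7]; exact Nat.mul_le_mul_right _ h3
  have h9 : 0 < Nat.card B := Nat.card_pos
  omega

theorem mem_norm_of_comm {K : Subgroup G} {c : G} (h : ∀ x ∈ K, c * x = x * c) :
    c ∈ Subgroup.normalizer (K : Set G) := by
  rw [Subgroup.mem_normalizer_iff]
  intro x
  constructor
  · intro hx
    rw [h x hx, mul_inv_cancel_right]; exact hx
  · intro hx
    have h1 := h _ hx
    have h2 : x = c * x * c⁻¹ := by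
      have h3 : c⁻¹ * (c * (c * x * c⁻¹)) * c = c⁻¹ * (c * x * c⁻¹ * c) * c := by rw [h1]
      have h4 : c⁻¹ * (c * (c * x * c⁻¹)) * c = c * x := by group
      have h5 : c⁻¹ * (c * x * c⁻¹ * c) * c = x * c := by group
      rw [h4, h5] at h3
      rw [h3, mul_inv_cancel_right]
    rw [h2]; exact hx

theorem conj_commute {K A Q C : Subgroup G} (h : Cfg ρ K A Q C) {a₀ : G} (ha₀ : a₀ ∈ A)
    (ha₀K : a₀ ∉ Subgroup.normalizer (K : Set G)) {k : G} (hk : k ∈ K) :
    ∀ s ∈ Sg ρ K, ρ (a₀ * k * a₀⁻¹) * s = s * ρ (a₀ * k * a₀⁻¹) := by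
  apply commute_Sg
  intro x hx
  rw [← map_mul, ← map_mul, (h.conj a₀ ha₀).resolve_left ha₀K k hk x hx]

theorem inv_fix {a : G} {u : U} (h : ρ a u = u) : ρ a⁻¹ u = u := by
  conv_lhs => rw [← h]
  exact inv_ap_ap ρ a u

/-- the second count -/
theorem count2 [Fact p.Prime] {K A Q C : Subgroup G} (h : Cfg ρ K A Q C) (M : Submodule (SgT ρ K) U)
    [IsSimpleModule (SgT ρ K) M] (hM : ∃ x ∈ K, ∃ m ∈ M, ρ x m ≠ m)
    {u : U} (hu : u ∈ M) (hu0 : u ≠ 0) (huA : ∀ a ∈ A, ρ a u = u) {a₀ : G} (ha₀ : a₀ ∈ A)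
    (ha₀K : a₀ ∉ Subgroup.normalizer (K : Set G))
    (hBM : ∀ b ∈ Q ⊓ Subgroup.normalizer (K : Set G), ∀ m ∈ M, ρ b m ∈ M) :
    Nat.card (fx ρ Q) * (Nat.card M * Nat.card M) ≤
      Nat.card U * (Nat.card ↥(fx ρ (Q ⊓ Subgroup.normalizer (K : Set G)) ⊓ toSub ρ M) *
        Nat.card ↥(fx ρ Q ⊓ toSub ρ M)) := by
  classical
  set B := Q ⊓ Subgroup.normalizer (K : Set G) with hB
  set Mf := toSub ρ M with hMf
  set F := fx ρ Q with hF
  obtain ⟨k, hk, hku⟩ : ∃ k ∈ K, ρ (a₀ * k * a₀⁻¹) u ∉ M := by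
    by_contra hcon
    push Not at hcon
    have hE : ∀ k ∈ K, ∃ e : Module.End (SgT ρ K) M, ∀ m : M, (e m : U) = ρ (a₀ * k * a₀⁻¹) m :=
      fun k hk => restr ρ M hu hu0 (conj_commute ρ h ha₀ ha₀K hk) (hcon k hk)
    apply hu0
    apply no_fix ρ M hM hu
    apply perfect_fix ρ h.perf
    intro x hx y hy
    obtain ⟨e, he⟩ := hE x hx
    obtain ⟨f, hf⟩ := hE y hy
    have hid : ∀ x y : G, ρ x (ρ y u) = ρ a₀⁻¹ (ρ (a₀ * x * a₀⁻¹) (ρ (a₀ * y * a₀⁻¹) u)) := by
      intro x y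
      rw [← mul_ap, ← mul_ap, ← mul_ap]
      have : a₀⁻¹ * (a₀ * x * a₀⁻¹) * (a₀ * y * a₀⁻¹) = x * y * a₀⁻¹ := by group
      rw [this, mul_ap ρ (x * y), inv_fix ρ (huA a₀ ha₀)]
    rw [hid x y, hid y x]
    have h1 : ρ (a₀ * x * a₀⁻¹) (ρ (a₀ * y * a₀⁻¹) u) = e (f ⟨u, hu⟩) := by rw [he, hf]
    have h2 : ρ (a₀ * y * a₀⁻¹) (ρ (a₀ * x * a₀⁻¹) u) = f (e ⟨u, hu⟩) := by rw [hf, he]
    rw [h1, h2, end_comm_ap]
  set g := a₀ * k * a₀⁻¹ with hg
  have hgc : ∀ s ∈ Sg ρ K, ρ g * s = s * ρ g := conj_commute ρ h ha₀ ha₀K hk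
  have hdisj : Mf ⊓ Mf.map (ρ g) = ⊥ := by
    rcases le_or_disj M (M.map (toLin ρ (ρ g) hgc)) with h1 | h1
    · exfalso
      apply hku
      have h2 : Mf ≤ Mf.map (ρ g) := h1
      have h3 : Mf = Mf.map (ρ g) := by
        apply eq_of_le_of_card h2
        apply Nat.card_le_card_of_surjective (fun m : Mf => (⟨ρ g m, Submodule.mem_map_of_mem m.2⟩ : Mf.map (ρ g)))
        rintro ⟨_, m, hm, rfl⟩
        exact ⟨⟨m, hm⟩, rfl⟩
      have h4 : ρ g u ∈ Mf.map (ρ g) := Submodule.mem_map_of_mem hu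
      rw [← h3] at h4
      exact h4
    · rw [eq_bot_iff]
      intro x hx
      have h2 : x ∈ M ⊓ M.map (toLin ρ (ρ g) hgc) := hx
      rw [h1] at h2
      exact h2
  -- the commutator
  have hT : ∀ b ∈ B, ∀ m ∈ M, ρ (b * g * b⁻¹) m - ρ g m ∈ M := by
    intro b hb
    have hbc : b * a₀ = a₀ * b := h.comm b (h.QA hb.1) a₀ ha₀
    have hkb : b * k * b⁻¹ ∈ K := (Subgroup.mem_normalizer_iff.1 hb.2 k).1 hk
    have e1 : b * g * b⁻¹ = a₀ * (b * k * b⁻¹) * a₀⁻¹ := by
      have e2 : b⁻¹ * a₀ = a₀ * b⁻¹ := by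
        rw [inv_mul_eq_iff_eq_mul, ← mul_assoc, hbc, mul_inv_cancel_right]
      have e3 : a₀⁻¹ * b⁻¹ = b⁻¹ * a₀⁻¹ := by rw [← mul_inv_rev, ← mul_inv_rev, hbc]
      calc b * g * b⁻¹ = (b * a₀) * k * (a₀⁻¹ * b⁻¹) := by rw [hg]; group
        _ = (a₀ * b) * k * (b⁻¹ * a₀⁻¹) := by rw [hbc, e3]
        _ = _ := by group
    have hTc : ∀ s ∈ Sg ρ K, (ρ (b * g * b⁻¹) - ρ g) * s = s * (ρ (b * g * b⁻¹) - ρ g) := by
      intro s hs
      rw [sub_mul, mul_sub, e1, conj_commute ρ h ha₀ ha₀K hkb s hs, hgc s hs]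
    have hTu : (ρ (b * g * b⁻¹) - ρ g) u ∈ M := by
      have h1 : (ρ (b * g * b⁻¹) - ρ g) u = ρ b (ρ g u) - ρ g u := by
        rw [LinearMap.sub_apply, mul_ap, mul_ap, inv_fix ρ (huA b (h.QA hb.1))]
      have h2 : ρ a₀⁻¹ ((ρ (b * g * b⁻¹) - ρ g) u) = (ρ (b * g * b⁻¹) - ρ g) u := by
        rw [h1]
        exact quad' ρ h hb.1 (inv_mem ha₀) _
      have h3 : ∀ x : G, ρ a₀⁻¹ (ρ (a₀ * x * a₀⁻¹) u) = ρ x u := by
        intro x
        rw [← mul_ap]
        have : a₀⁻¹ * (a₀ * x * a₀⁻¹) = x * a₀⁻¹ := by group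
        rw [this, mul_ap, inv_fix ρ (huA a₀ ha₀)]
      rw [← h2, e1, LinearMap.sub_apply, map_sub, hg, h3, h3]
      exact M.sub_mem (rho_mem_of_mem ρ M hkb hu) (rho_mem_of_mem ρ M hk hu)
    obtain ⟨e, he⟩ := restr ρ M hu hu0 hTc hTu
    intro m hm
    have := (e ⟨m, hm⟩).2
    rw [he] at this
    exact this
  set CM := fx ρ B ⊓ Mf with hCM
  set W := Mf ⊔ Mf.map (ρ g) with hW
  have hWF : F ⊓ W ≤ Mf ⊔ CM.map (ρ g) := by
    rintro w ⟨hwF, hwW⟩
    obtain ⟨m, hm, _, ⟨m', hm', rfl⟩, rfl⟩ := Submodule.mem_sup.1 hwW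
    apply Submodule.add_mem_sup hm
    apply Submodule.mem_map_of_mem
    refine ⟨?_, hm'⟩
    intro b hb
    have h1 : ρ b (m + ρ g m') = m + ρ g m' := hwF b hb.1
    have h2 : ρ b (ρ g m') = ρ (b * g * b⁻¹) (ρ b m') := by
      rw [← mul_ap, ← mul_ap, inv_mul_cancel_right]
    rw [map_add, h2] at h1
    have hbm' : ρ b m' ∈ M := hBM b hb m' hm'
    have h3 : ρ g (ρ b m' - m') = m - ρ b m - (ρ (b * g * b⁻¹) (ρ b m') - ρ g (ρ b m')) := by
      rw [map_sub]
      have : ρ (b * g * b⁻¹) (ρ b m') = m + ρ g m' - ρ b m := by rw [← h1]; abel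
      rw [this]; abel
    have h4 : ρ g (ρ b m' - m') ∈ Mf ⊓ Mf.map (ρ g) := by
      constructor
      · rw [h3]
        exact Mf.sub_mem (Mf.sub_mem hm (hBM b hb m hm)) (hT b hb _ hbm')
      · exact Submodule.mem_map_of_mem (Mf.sub_mem hbm' hm')
    rw [hdisj, Submodule.mem_bot] at h4
    have h5 : ρ b m' - m' = 0 := ap_inj ρ g (by rw [h4, map_zero])
    exact sub_eq_zero.1 h5
  have c1 := card_mod_le _ _ _ hWF
  have c2 := card_sup_mul F W
  have c3 := card_sup_mul Mf (Mf.map (ρ g))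
  have c4 : ∀ Y : Submodule (ZMod p) U, Nat.card (Y.map (ρ g)) = Nat.card Y := fun Y =>
    (Nat.card_congr (Submodule.equivMapOfInjective (ρ g) (fun a b hab => ap_inj ρ g hab) Y).toEquiv).symm
  rw [hdisj, c4, ← hW] at c3
  have c5 : Nat.card (⊥ : Submodule (ZMod p) U) = 1 := Nat.card_unique
  rw [c5, mul_one] at c3
  have c6 : Nat.card ↥(F ⊔ W) ≤ Nat.card U := Nat.card_le_card_of_injective Subtype.val Subtype.val_injective
  have c7 : Nat.card ↥(F ⊓ W ⊓ Mf) ≤ Nat.card ↥(F ⊓ Mf) := card_mono (inf_le_inf_right _ inf_le_left)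
  rw [c4] at c1
  have c8 : Nat.card Mf = Nat.card M := rfl
  calc Nat.card F * (Nat.card M * Nat.card M) = Nat.card F * Nat.card W := by rw [c3, c8]
    _ = Nat.card ↥(F ⊔ W) * Nat.card ↥(F ⊓ W) := c2.symm
    _ ≤ Nat.card U * (Nat.card CM * Nat.card ↥(F ⊓ Mf)) :=
      Nat.mul_le_mul c6 (c1.trans (Nat.mul_le_mul_left _ c7))

/-- a perfect group acts trivially on a module of order at most 4 -/
theorem small_trivial {K : Subgroup G} (hK : ⁅K, K⁆ = K) (Y : Submodule (ZMod p) U)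
    (hY : ∀ x ∈ K, ∀ y ∈ Y, ρ x y ∈ Y) (h4 : Nat.card Y ≤ 4) : ∀ x ∈ K, ∀ y ∈ Y, ρ x y = y := by
  let f : K →* Equiv.Perm Y :=
    { toFun := fun x =>
        { toFun := fun y => ⟨ρ x.1 y.1, hY _ x.2 _ y.2⟩
          invFun := fun y => ⟨ρ x.1⁻¹ y.1, hY _ (inv_mem x.2) _ y.2⟩
          left_inv := fun y => Subtype.ext (inv_ap_ap ρ x.1 y.1)
          right_inv := fun y => Subtype.ext (ap_inv_ap ρ x.1 y.1) }
      map_one' := by
        ext y
        exact one_ap ρ y.1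
      map_mul' := by
        intro a b
        ext y
        exact mul_ap ρ a.1 b.1 y.1 }
  intro x hx y hy
  have h1 := hom_trivial (comm_top hK) (perm_solvable h4) f ⟨x, hx⟩
  have h2 := Equiv.congr_fun h1 ⟨y, hy⟩
  exact congrArg Subtype.val h2

/-- **case (β1)** -/
theorem beta1 [Fact p.Prime] {K A Q C : Subgroup G} (h : Cfg ρ K A Q C) (M : Submodule (SgT ρ K) U)
    [IsSimpleModule (SgT ρ K) M] (hM : ∃ x ∈ K, ∃ m ∈ M, ρ x m ≠ m) {a₀ : G} (ha₀ : a₀ ∈ A)
    (ha₀K : a₀ ∉ Subgroup.normalizer (K : Set G))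
    (hBM : ∀ b ∈ Q ⊓ Subgroup.normalizer (K : Set G), ∀ m ∈ M, ρ b m ∈ M)
    {b₀ : G} (hb₀ : b₀ ∈ Q ⊓ Subgroup.normalizer (K : Set G)) (hb₀C : b₀ ∉ C) : False := by
  classical
  set B := Q ⊓ Subgroup.normalizer (K : Set G) with hB
  have hCB : C ≤ B := by
    intro c hc
    exact ⟨h.CQ hc, mem_norm_of_comm (h.cK c hc)⟩
  obtain ⟨m, hm, hne⟩ : ∃ m ∈ M, ρ b₀ m ≠ m := by
    by_contra hcon
    push Not at hcon
    exact hb₀C (h.faith b₀ hb₀.1 hb₀.2 (toSub ρ M) (fun x hx m hm => rho_mem_of_mem ρ M hx hm) hM hcon)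
  set u := ρ b₀ m - m with hu_def
  have hu0 : u ≠ 0 := sub_ne_zero.2 hne
  have hu : u ∈ M := M.sub_mem (hBM b₀ hb₀ m hm) hm
  have huA : ∀ a ∈ A, ρ a u = u := fun a ha => quad' ρ h hb₀.1 ha m
  by_cases h3 : 3 ≤ B.relIndex Q
  · obtain ⟨s, hs, t, ht, hsB, htB, hstB⟩ := exists_three (inf_le_left : B ≤ Q) h3
    apply hu0
    apply zero_of_J1 ρ h.perf M hM hu
    intro y x
    exact J1 ρ h hs ht (fun h' => hsB ⟨hs, h'⟩) (fun h' => htB ⟨ht, h'⟩)
      (fun h' => hstB ⟨mul_mem hs ht, h'⟩) (huA s (h.QA hs)) (huA t (h.QA ht)) y x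
  · have c1 := count1 ρ h M hM hu hu0 huA ha₀ ha₀K hBM
    have c2 := count2 ρ h M hM hu hu0 huA ha₀ ha₀K hBM
    rw [← hB] at c1 c2
    have c3 := h.off
    have c4 := card_relIndex hCB
    have c5 := card_relIndex (inf_le_left : B ≤ Q)
    have c6 : Nat.card M ≤ B.relIndex Q * Nat.card ↥(fx ρ Q ⊓ toSub ρ M) := by
      have hpos : 0 < Nat.card C * Nat.card (fx ρ Q) * Nat.card M :=
        Nat.mul_pos (Nat.mul_pos Nat.card_pos Nat.card_pos) Nat.card_pos
      apply Nat.le_of_mul_le_mul_right _ hpos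
      generalize Nat.card M = x1 at *
      generalize Nat.card (fx ρ Q) = x2 at *
      generalize Nat.card ↥(fx ρ B ⊓ toSub ρ M) = x3 at *
      generalize Nat.card ↥(fx ρ Q ⊓ toSub ρ M) = x4 at *
      generalize Nat.card C = x5 at *
      generalize Nat.card U = x6 at *
      generalize Nat.card Q = x7 at *
      generalize Nat.card B = x8 at *
      generalize B.relIndex Q = x9 at *
      generalize C.relIndex B = x10 at *
      calc x1 * (x5 * x2 * x1) = x5 * (x2 * (x1 * x1)) := by ring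
        _ ≤ x5 * (x6 * (x3 * x4)) := Nat.mul_le_mul_left _ c2
        _ = (x5 * x6) * (x3 * x4) := by ring
        _ ≤ (x7 * x2) * (x3 * x4) := Nat.mul_le_mul_right _ c3
        _ = (x10 * x3) * (x9 * x5 * x2 * x4) := by rw [← c5, ← c4]; ring
        _ ≤ x1 * (x9 * x5 * x2 * x4) := Nat.mul_le_mul_right _ c1
        _ = _ := by ring
    have hrpos : B.relIndex Q ≠ 0 := by
      intro h0
      rw [h0, zero_mul] at c5
      exact (Nat.card_pos (α := Q)).ne c5
    by_cases h1 : B.relIndex Q = 1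
    · -- `M ≤ fx Q`
      rw [h1, one_mul] at c6
      have h2 : fx ρ Q ⊓ toSub ρ M = toSub ρ M := eq_of_le_of_card inf_le_right c6
      have h4 : m ∈ fx ρ Q ⊓ toSub ρ M := by rw [h2]; exact hm
      exact hne (h4.1 b₀ hb₀.1)
    · have h2 : B.relIndex Q = 2 := by omega
      obtain ⟨a, haQ, haB⟩ : ∃ a ∈ Q, a ∉ B := by
        by_contra hcon
        push Not at hcon
        exact h1 (Subgroup.relIndex_eq_one.2 hcon)
      have haN : a ∉ Subgroup.normalizer (K : Set G) := fun h' => haB ⟨haQ, h'⟩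
      have hfE : Finite (Module.End (SgT ρ K) M) := DFunLike.finite _
      have c7 : Nat.card ↥(fx ρ Q ⊓ toSub ρ M) ≤ Nat.card (Module.End (SgT ρ K) M) := by
        have hex : ∀ z : ↥(fx ρ Q ⊓ toSub ρ M), ∃ e : Module.End (SgT ρ K) M, (e ⟨u, hu⟩ : U) = z :=
          fun z => fix_in_Eu ρ M hu hu0 ((h.conj a (h.QA haQ)).resolve_left haN)
            (huA a (h.QA haQ)) z.2.2 (z.2.1 a haQ)
        choose f hf using hex
        apply Nat.card_le_card_of_injective f
        intro z z' hzz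
        apply Subtype.ext
        rw [← hf z, ← hf z', hzz]
      have c8 : Nat.card (Module.End (SgT ρ K) M) * Nat.card (Module.End (SgT ρ K) M) ≤ Nat.card M := by
        obtain ⟨w, hw⟩ := exists_not_Eu ρ h.perf M hM hu hu0
        rw [← Nat.card_prod]
        apply Nat.card_le_card_of_injective
          (fun ef : Module.End (SgT ρ K) M × Module.End (SgT ρ K) M => ef.1 ⟨u, hu⟩ + ef.2 w)
        rintro ⟨e, f⟩ ⟨e', f'⟩ heq
        simp only at heq
        have hff : f = f' := by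
          by_contra hff
          obtain ⟨g, hg, _⟩ := end_surj (sub_ne_zero.2 hff)
          apply hw (g * (e' - e))
          have k1 : (e' - e) ⟨u, hu⟩ = (f - f') w := by
            rw [LinearMap.sub_apply, LinearMap.sub_apply, sub_eq_sub_iff_add_eq_add, ← heq, add_comm]
          have k2 : g ((f - f') w) = w := LinearMap.congr_fun hg w
          change g ((e' - e) ⟨u, hu⟩) = w
          rw [k1, k2]
        subst hff
        have k3 : e ⟨u, hu⟩ = e' ⟨u, hu⟩ := add_right_cancel heq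
        have k4 : e = e' := by
          by_contra hee
          obtain ⟨g, hg, _⟩ := end_surj (sub_ne_zero.2 hee)
          have k5 : g ((e - e') ⟨u, hu⟩) = ⟨u, hu⟩ := LinearMap.congr_fun hg _
          rw [LinearMap.sub_apply, k3, sub_self, map_zero] at k5
          exact hu0 (congrArg Subtype.val k5.symm)
        rw [k4]
      have c9 : Nat.card (Module.End (SgT ρ K) M) ≤ 2 := by
        rw [h2] at c6
        have hpos : 0 < Nat.card (Module.End (SgT ρ K) M) := Nat.card_pos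
        apply Nat.le_of_mul_le_mul_right _ hpos
        exact c8.trans (c6.trans (Nat.mul_le_mul_left _ c7))
      have c10 : Nat.card M ≤ 4 := by
        rw [h2] at c6
        refine c6.trans ?_
        have := c7.trans c9
        omega
      obtain ⟨x, hx, m', hm', hne'⟩ := hM
      exact hne' (small_trivial ρ h.perf (toSub ρ M) (fun x hx m hm => rho_mem_of_mem ρ M hx hm)
        c10 x hx m' hm')

end Cfsg.Agent.H281.PGV
end

-- part: H281/PGV/BetaTwo
section
set_option autoImplicit false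
set_option linter.unusedSectionVars false

/-! # P(G,V): the case of non-isomorphic conjugate submodules -/

namespace Cfsg.Agent.H281.PGV

universe u v

section generic

variable {R : Type*} [Ring R] {U : Type*} [AddCommGroup U] [Module R U]

theorem no_ann (M N : Submodule R U) [IsSimpleModule R M] [IsSimpleModule R N]
    (hn : ¬ Nonempty (M ≃ₗ[R] N)) {z w : U} (hz : z ∈ M) (hz0 : z ≠ 0) (hw : w ∈ N) (hw0 : w ≠ 0) :
    ∃ y : R, y • z = 0 ∧ y • w ≠ 0 := by
  by_contra hcon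
  push Not at hcon
  obtain ⟨φ, hφ⟩ := exists_hom (R := R) (M := M) (N := N) ⟨z, hz⟩ (fun m => by
    obtain ⟨s, hs⟩ := exists_smul_eq M hz hz0 m.2
    exact ⟨s, Subtype.ext hs⟩) ⟨w, hw⟩ (fun y hy => Subtype.ext (hcon y (congrArg Subtype.val hy)))
  have hne : φ ≠ 0 := by
    intro h0
    have := hφ 1
    rw [h0, LinearMap.zero_apply, one_smul] at this
    exact hw0 (congrArg Subtype.val this.symm)
  exact hn ⟨LinearEquiv.ofBijective φ (LinearMap.bijective_of_ne_zero hne)⟩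

theorem disj_of_not_iso (M N : Submodule R U) [IsSimpleModule R M] [IsSimpleModule R N]
    (hn : ¬ Nonempty (M ≃ₗ[R] N)) : M ⊓ N = ⊥ := by
  rcases le_or_disj M N with h | h
  · exfalso
    have hN : IsAtom N := isSimpleModule_iff_isAtom.1 inferInstance
    have hM : IsAtom M := isSimpleModule_iff_isAtom.1 inferInstance
    rcases hN.le_iff.1 h with h1 | h1
    · exact hM.1 h1
    · subst h1
      exact hn ⟨LinearEquiv.refl R M⟩
  · exact h

/-- a simple submodule of `M ⊕ N`, `M` and `N` simple and not isomorphic -/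
theorem simple_le (M N X : Submodule R U) [IsSimpleModule R M] [IsSimpleModule R N] [IsSimpleModule R X]
    (hn : ¬ Nonempty (M ≃ₗ[R] N)) (hX : X ≤ M ⊔ N) : X ≤ M ∨ X ≤ N := by
  have hn' : ¬ Nonempty (N ≃ₗ[R] M) := fun ⟨e⟩ => hn ⟨e.symm⟩
  have hXa : IsAtom X := isSimpleModule_iff_isAtom.1 inferInstance
  obtain ⟨x, hx, hx0⟩ := (Submodule.ne_bot_iff X).1 hXa.1
  obtain ⟨m, hm, n, hnN, hmn⟩ := Submodule.mem_sup.1 (hX hx)
  have key : ∀ Y : Submodule R U, ∀ y ∈ X, y ∈ Y → y ≠ 0 → X ≤ Y := by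
    intro Y y hyX hyY hy0
    rcases le_or_disj X Y with h | h
    · exact h
    · exfalso
      have : y ∈ X ⊓ Y := ⟨hyX, hyY⟩
      rw [h] at this
      exact hy0 ((Submodule.mem_bot _).1 this)
  by_cases hm0 : m = 0
  · right
    rw [hm0, zero_add] at hmn
    exact key N x hx (hmn ▸ hnN) hx0
  by_cases hn0 : n = 0
  · left
    rw [hn0, add_zero] at hmn
    exact key M x hx (hmn ▸ hm) hx0
  obtain ⟨y, hy1, hy2⟩ := no_ann M N hn hm hm0 hnN hn0
  right
  apply key N (y • x) (X.smul_mem _ hx)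
  · rw [← hmn, smul_add, hy1, zero_add]; exact N.smul_mem _ hnN
  · rw [← hmn, smul_add, hy1, zero_add]; exact hy2

end generic

variable {p : ℕ} {G : Type u} {U : Type v} [Group G] [AddCommGroup U] [Module (ZMod p) U]
variable (ρ : Representation (ZMod p) G U)

/-- the conjugate of a submodule -/
def tw {K : Subgroup G} (b : G) (hb : b ∈ Subgroup.normalizer (K : Set G))
    (M : Submodule (SgT ρ K) U) : Submodule (SgT ρ K) U :=
  ofInv ρ ((toSub ρ M).map (ρ b)) (by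
    rintro x hx _ ⟨m, hm, rfl⟩
    have h1 : b⁻¹ * x * b ∈ K := by
      have := (Subgroup.mem_normalizer_iff.1 (inv_mem hb) x).1 hx
      rwa [inv_inv] at this
    refine ⟨ρ (b⁻¹ * x * b) m, rho_mem_of_mem ρ M h1 hm, ?_⟩
    rw [← mul_ap, ← mul_ap]
    congr 2
    group)

theorem mem_tw {K : Subgroup G} {b : G} {hb : b ∈ Subgroup.normalizer (K : Set G)}
    {M : Submodule (SgT ρ K) U} {y : U} : y ∈ tw ρ b hb M ↔ ∃ m ∈ M, ρ b m = y := Iff.rfl

theorem tw_mono {K : Subgroup G} {b : G} {hb : b ∈ Subgroup.normalizer (K : Set G)}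
    {M N : Submodule (SgT ρ K) U} (h : M ≤ N) : tw ρ b hb M ≤ tw ρ b hb N := by
  rintro _ ⟨m, hm, rfl⟩
  exact ⟨m, h hm, rfl⟩

theorem tw_tw {K : Subgroup G} {b c : G} {hb : b ∈ Subgroup.normalizer (K : Set G)}
    {hc : c ∈ Subgroup.normalizer (K : Set G)} (M : Submodule (SgT ρ K) U) :
    tw ρ b hb (tw ρ c hc M) = tw ρ (b * c) (mul_mem hb hc) M := by
  ext y
  constructor
  · rintro ⟨_, ⟨m, hm, rfl⟩, rfl⟩
    exact ⟨m, hm, mul_ap ρ b c m⟩
  · rintro ⟨m, hm, rfl⟩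
    exact ⟨ρ c m, ⟨m, hm, rfl⟩, (mul_ap ρ b c m).symm⟩

theorem tw_one {K : Subgroup G} (M : Submodule (SgT ρ K) U) (h1 : (1 : G) ∈ Subgroup.normalizer (K : Set G)) :
    tw ρ 1 h1 M = M := by
  ext y
  constructor
  · rintro ⟨m, hm, rfl⟩
    rw [one_ap]; exact hm
  · intro hy
    exact ⟨y, hy, one_ap ρ y⟩

/-- the twist as an order isomorphism -/
def twIso {K : Subgroup G} (b : G) (hb : b ∈ Subgroup.normalizer (K : Set G)) :
    Submodule (SgT ρ K) U ≃o Submodule (SgT ρ K) U where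
  toFun := tw ρ b hb
  invFun := tw ρ b⁻¹ (inv_mem hb)
  left_inv := fun M => by
    rw [tw_tw]
    simp only [inv_mul_cancel]
    exact tw_one ρ M _
  right_inv := fun M => by
    rw [tw_tw]
    simp only [mul_inv_cancel]
    exact tw_one ρ M _
  map_rel_iff' := by
    intro M N
    constructor
    · intro h m hm
      obtain ⟨n, hn, hmn⟩ := h ⟨m, hm, rfl⟩
      rw [← ap_inj ρ b hmn]; exact hn
    · intro h; exact tw_mono ρ (hb := hb) h

theorem tw_simple {K : Subgroup G} (b : G) (hb : b ∈ Subgroup.normalizer (K : Set G))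
    (M : Submodule (SgT ρ K) U) [hM : IsSimpleModule (SgT ρ K) M] :
    IsSimpleModule (SgT ρ K) (tw ρ b hb M) := by
  rw [isSimpleModule_iff_isAtom] at hM ⊢
  exact ((twIso ρ b hb).isAtom_iff M).2 hM

variable [Finite G] [Finite U]

/-- **case (β2)** -/
theorem beta2 [Fact p.Prime] {K A Q C : Subgroup G} (h : Cfg ρ K A Q C) (M : Submodule (SgT ρ K) U)
    [IsSimpleModule (SgT ρ K) M] (hM : ∃ x ∈ K, ∃ m ∈ M, ρ x m ≠ m)
    {b : G} (hb : b ∈ Q ⊓ Subgroup.normalizer (K : Set G))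
    (hn : ¬ Nonempty (M ≃ₗ[SgT ρ K] tw ρ b hb.2 M)) : False := by
  classical
  have hNs : IsSimpleModule (SgT ρ K) (tw ρ b hb.2 M) := tw_simple ρ b hb.2 M
  set N := tw ρ b hb.2 M with hN
  have hn' : ¬ Nonempty (N ≃ₗ[SgT ρ K] M) := fun ⟨e⟩ => hn ⟨e.symm⟩
  have hMa : IsAtom M := isSimpleModule_iff_isAtom.1 inferInstance
  obtain ⟨z, hz, hz0⟩ := (Submodule.ne_bot_iff M).1 hMa.1
  set w := ρ b z with hw_def
  have hw : w ∈ N := ⟨z, hz, rfl⟩
  have hw0 : w ≠ 0 := fun h0 => hz0 (ap_inj ρ b (by rw [← hw_def, h0, map_zero]))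
  have hdisj : M ⊓ N = ⊥ := disj_of_not_iso M N hn
  have hzero : ∀ x, x ∈ M → x ∈ N → x = 0 := by
    intro x h1 h2
    have : x ∈ M ⊓ N := ⟨h1, h2⟩
    rw [hdisj] at this
    exact (Submodule.mem_bot _).1 this
  set u := w - z with hu_def
  have huA : ∀ a ∈ A, ρ a u = u := fun a ha => quad' ρ h hb.1 ha z
  set B := Q ⊓ Subgroup.normalizer (K : Set G) with hB
  -- elements preserving `M`
  have hfixM : ∀ b' ∈ B, (∀ m ∈ M, ρ b' m ∈ M) → b' ∈ C := by
    intro b' hb' hb'M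
    apply h.faith b' hb'.1 hb'.2 (toSub ρ M) (fun x hx m hm => rho_mem_of_mem ρ M hx hm) hM
    intro m hm
    have h1 : ρ b' (ρ b m - m) = ρ b m - m := quad' ρ h hb.1 (h.QA hb'.1) m
    rw [map_sub, ← mul_ap, h.comm b' (h.QA hb'.1) b (h.QA hb.1), mul_ap] at h1
    have h2 : ρ b (ρ b' m) - ρ b m = ρ b' m - m := by
      rw [sub_eq_sub_iff_add_eq_add] at h1 ⊢
      rw [h1, add_comm]
    have h3 : ρ b' m - m = 0 := by
      apply hzero
      · exact M.sub_mem (hb'M m hm) hm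
      · rw [← h2, ← map_sub]
        exact ⟨ρ b' m - m, M.sub_mem (hb'M m hm) hm, rfl⟩
    exact sub_eq_zero.1 h3
  -- generation
  have hgenM : ∀ m ∈ M, ∃ s : SgT ρ K, s • u = m := by
    intro m hm
    obtain ⟨y, hy1, hy2⟩ := no_ann N M hn' hw hw0 hz hz0
    have h1 : y • u = -(y • z) := by rw [hu_def, smul_sub, hy1, zero_sub]
    obtain ⟨s, hs⟩ := exists_smul_eq M (M.neg_mem (M.smul_mem y hz)) (neg_ne_zero.2 hy2) hm
    exact ⟨s * y, by rw [mul_smul, h1, hs]⟩
  have htwle : ∀ b' (hb' : b' ∈ B), tw ρ b' hb'.2 M ≤ M ⊔ N := by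
    rintro b' hb' _ ⟨m, hm, rfl⟩
    obtain ⟨s, rfl⟩ := hgenM m hm
    have hs := conj_Sg ρ hb'.2 (s.op ρ) s.op_mem
    have h1 : ρ b' (s • u) = SgT.mk ρ _ hs • u := by
      rw [SgT.mk_smul, SgT.smul_def]
      change ρ b' (s.op ρ u) = ρ b' (s.op ρ (ρ b'⁻¹ u))
      rw [inv_fix ρ (huA b' (h.QA hb'.1))]
    rw [h1]
    apply Submodule.smul_mem
    rw [hu_def]
    exact Submodule.sub_mem _ (Submodule.mem_sup_right hw) (Submodule.mem_sup_left hz)
  have hdich : ∀ b' ∈ B, b' ∈ C ∨ b⁻¹ * b' ∈ C := by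
    intro b' hb'
    have hXs : IsSimpleModule (SgT ρ K) (tw ρ b' hb'.2 M) := tw_simple ρ b' hb'.2 M
    rcases simple_le M N (tw ρ b' hb'.2 M) hn (htwle b' hb') with h1 | h1
    · left
      exact hfixM b' hb' (fun m hm => h1 ⟨m, hm, rfl⟩)
    · right
      apply hfixM _ (mul_mem (inv_mem hb) hb')
      intro m hm
      obtain ⟨m', hm', he⟩ : ρ b' m ∈ N := h1 ⟨m, hm, rfl⟩
      rw [mul_ap, ← he, inv_ap_ap]
      exact hm'
  have hrel : C.relIndex B ≤ 2 := by
    have h1 := relIndex_le_of_fib (B := B) (C := C) (fun b' => decide (b' ∈ C)) (by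
      intro b' hb' b'' hb'' heq
      by_cases h1 : b' ∈ C
      · have h2 : b'' ∈ C := by
          simp only [h1, decide_true] at heq
          exact of_decide_eq_true heq.symm
        exact mul_mem (inv_mem h1) h2
      · have h2 : b'' ∉ C := by
          simp only [h1, decide_false] at heq
          exact of_decide_eq_false heq.symm
        have h3 := (hdich b' hb').resolve_left h1
        have h4 := (hdich b'' hb'').resolve_left h2
        have h5 : b'⁻¹ * b'' = (b⁻¹ * b')⁻¹ * (b⁻¹ * b'') := by group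
        rw [h5]
        exact mul_mem (inv_mem h3) h4)
    rwa [Nat.card_eq_fintype_card, Fintype.card_bool] at h1
  by_cases h3 : 3 ≤ B.relIndex Q
  · obtain ⟨s, hs, t, ht, hsB, htB, hstB⟩ := exists_three (inf_le_left : B ≤ Q) h3
    have hJ : ∀ y x : SgT ρ K, y • u = 0 → y • x • u = 0 := by
      intro y x
      exact J1 ρ h hs ht (fun h' => hsB ⟨hs, h'⟩) (fun h' => htB ⟨ht, h'⟩)
        (fun h' => hstB ⟨mul_mem hs ht, h'⟩) (huA s (h.QA hs)) (huA t (h.QA ht)) y x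
    have hJ' : ∀ y x : SgT ρ K, y • u = 0 → y • x • z = 0 := by
      intro y x hy
      have h1 := hJ y x hy
      rw [hu_def, smul_sub, smul_sub, sub_eq_zero] at h1
      apply hzero
      · exact M.smul_mem _ (M.smul_mem _ hz)
      · rw [← h1]; exact N.smul_mem _ (N.smul_mem _ hw)
    obtain ⟨y₀, hy1, hy2⟩ := no_ann N M hn' hw hw0 hz hz0
    obtain ⟨y₁, hy₁⟩ := exists_smul_eq M (M.smul_mem y₀ hz) hy2 hz
    set e := y₁ * y₀ with he
    have hez : e • z = z := by rw [he, mul_smul, hy₁]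
    have hew : e • w = 0 := by rw [he, mul_smul, hy1, smul_zero]
    have h1e : ∀ x : SgT ρ K, e • x • z = x • z := by
      intro x
      by_contra hne
      have h5 : (1 - e) • x • z ≠ 0 := by
        rw [sub_smul, one_smul]
        exact sub_ne_zero.2 (Ne.symm hne)
      obtain ⟨f, hf1, hf2⟩ := no_ann N M hn' hw hw0 (M.smul_mem (1 - e) (M.smul_mem x hz)) h5
      apply hf2
      rw [← mul_smul f (1 - e)]
      apply hJ'
      rw [mul_smul, hu_def, smul_sub, sub_smul, sub_smul, one_smul, one_smul, hez, hew, sub_self,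
        sub_zero, sub_zero, hf1]
    apply hz0
    apply zero_of_J1 ρ h.perf M hM hz
    intro y x hy
    have h6 : (y * e) • u = 0 := by
      rw [mul_smul, hu_def, smul_sub, hez, hew, zero_sub, smul_neg, hy, neg_zero]
    have h7 := hJ' _ x h6
    rwa [mul_smul, h1e] at h7
  · -- the small case
    have hMF : toSub ρ M ⊓ fx ρ Q = ⊥ := by
      rw [eq_bot_iff]
      rintro x ⟨h1, h2⟩
      have h4 : ρ b x = x := h2 b hb.1
      exact hzero x h1 (h4 ▸ ⟨x, h1, rfl⟩)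
    have hCB : C ≤ B := fun c hc => ⟨h.CQ hc, mem_norm_of_comm (h.cK c hc)⟩
    have c1 := card_sup_mul (toSub ρ M) (fx ρ Q)
    have c2 : Nat.card (⊥ : Submodule (ZMod p) U) = 1 := Nat.card_unique
    rw [hMF, c2, mul_one] at c1
    have c3 : Nat.card ↥(toSub ρ M ⊔ fx ρ Q) ≤ Nat.card U :=
      Nat.card_le_card_of_injective Subtype.val Subtype.val_injective
    rw [c1] at c3
    have c4 := h.off
    have c5 := card_relIndex hCB
    have c6 := card_relIndex (inf_le_left : B ≤ Q)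
    have c7 : Nat.card (toSub ρ M) ≤ 4 := by
      have hpos : 0 < Nat.card C * Nat.card (fx ρ Q) := Nat.mul_pos Nat.card_pos Nat.card_pos
      apply Nat.le_of_mul_le_mul_right _ hpos
      calc Nat.card (toSub ρ M) * (Nat.card C * Nat.card (fx ρ Q)) =
          Nat.card C * (Nat.card (toSub ρ M) * Nat.card (fx ρ Q)) := by ring
        _ ≤ Nat.card C * Nat.card U := Nat.mul_le_mul_left _ c3
        _ ≤ Nat.card Q * Nat.card (fx ρ Q) := c4
        _ = (B.relIndex Q * C.relIndex B) * (Nat.card C * Nat.card (fx ρ Q)) := by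
          rw [← c6, ← c5]; ring
        _ ≤ (2 * 2) * (Nat.card C * Nat.card (fx ρ Q)) :=
          Nat.mul_le_mul_right _ (Nat.mul_le_mul (by omega) hrel)
        _ = _ := by norm_num
    obtain ⟨x, hx, m', hm', hne'⟩ := hM
    exact hne' (small_trivial ρ h.perf (toSub ρ M) (fun x hx m hm => rho_mem_of_mem ρ M hx hm)
      c7 x hx m' hm')

end Cfsg.Agent.H281.PGV
end

-- part: H281/PGV/MainU
section
set_option autoImplicit false
set_option linter.unusedSectionVars false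

/-! # P(G,V): the configuration on a section is impossible -/

namespace Cfsg.Agent.H281.PGV

universe u v

variable {p : ℕ} {G : Type u} {U : Type v} [Group G] [AddCommGroup U] [Module (ZMod p) U]
variable (ρ : Representation (ZMod p) G U)

theorem inv_mem_of_tw {K : Subgroup G} {b : G} {hb : b ∈ Subgroup.normalizer (K : Set G)}
    {M : Submodule (SgT ρ K) U} {y : U} (hy : y ∈ tw ρ b hb M) : ρ b⁻¹ y ∈ M := by
  obtain ⟨m, hm, rfl⟩ := hy
  rw [inv_ap_ap]; exact hm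

theorem tw_smul {K : Subgroup G} {b : G} (hb : b ∈ Subgroup.normalizer (K : Set G))
    {M N : Submodule (SgT ρ K) U} (e : M →ₗ[SgT ρ K] N) (s : SgT ρ K) (y : U) (hy : ρ b⁻¹ y ∈ M)
    (hy' : ρ b⁻¹ (s • y) ∈ M) :
    ρ b (e ⟨ρ b⁻¹ (s • y), hy'⟩) = s • ρ b (e ⟨ρ b⁻¹ y, hy⟩) := by
  have hs' : ρ b⁻¹ * s.op ρ * ρ b ∈ Sg ρ K := by
    have := conj_Sg ρ (inv_mem hb) _ s.op_mem
    rwa [inv_inv] at this
  have h1 : (⟨ρ b⁻¹ (s • y), hy'⟩ : M) = SgT.mk ρ _ hs' • ⟨ρ b⁻¹ y, hy⟩ := by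
    apply Subtype.ext
    change ρ b⁻¹ (s.op ρ y) = ρ b⁻¹ (s.op ρ (ρ b (ρ b⁻¹ y)))
    rw [ap_inv_ap]
  rw [h1, map_smul]
  change ρ b (ρ b⁻¹ (s.op ρ (ρ b (e ⟨ρ b⁻¹ y, hy⟩)))) = _
  rw [ap_inv_ap]
  rfl

theorem tw_iso {K : Subgroup G} {b : G} (hb : b ∈ Subgroup.normalizer (K : Set G))
    {M N : Submodule (SgT ρ K) U} (h : Nonempty (M ≃ₗ[SgT ρ K] N)) :
    Nonempty (tw ρ b hb M ≃ₗ[SgT ρ K] tw ρ b hb N) := by
  obtain ⟨e⟩ := h
  refine ⟨{ toFun := fun y => ⟨ρ b (e ⟨ρ b⁻¹ y.1, inv_mem_of_tw ρ y.2⟩), ⟨_, (e _).2, rfl⟩⟩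
            map_add' := ?_
            map_smul' := ?_
            invFun := fun y => ⟨ρ b (e.symm ⟨ρ b⁻¹ y.1, inv_mem_of_tw ρ y.2⟩), ⟨_, (e.symm _).2, rfl⟩⟩
            left_inv := ?_
            right_inv := ?_ }⟩
  · intro m n
    apply Subtype.ext
    have : (⟨ρ b⁻¹ (m.1 + n.1), inv_mem_of_tw ρ (m + n).2⟩ : M) =
        ⟨ρ b⁻¹ m.1, inv_mem_of_tw ρ m.2⟩ + ⟨ρ b⁻¹ n.1, inv_mem_of_tw ρ n.2⟩ :=
      Subtype.ext (map_add _ _ _)
    change ρ b (e ⟨ρ b⁻¹ (m.1 + n.1), _⟩) = ρ b (e ⟨ρ b⁻¹ m.1, _⟩) + ρ b (e ⟨ρ b⁻¹ n.1, _⟩)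
    rw [this, map_add, Submodule.coe_add, map_add]
  · intro s m
    apply Subtype.ext
    exact tw_smul ρ hb e.toLinearMap s m.1 (inv_mem_of_tw ρ m.2) (inv_mem_of_tw ρ (s • m).2)
  · intro y
    apply Subtype.ext
    change ρ b (e.symm ⟨ρ b⁻¹ (ρ b (e ⟨ρ b⁻¹ y.1, _⟩)), _⟩) = y.1
    have : (⟨ρ b⁻¹ (ρ b (e ⟨ρ b⁻¹ y.1, inv_mem_of_tw ρ y.2⟩)), inv_mem_of_tw (hb := hb) ρ ⟨_, (e _).2, rfl⟩⟩ : N) =
      e ⟨ρ b⁻¹ y.1, inv_mem_of_tw ρ y.2⟩ := Subtype.ext (inv_ap_ap ρ b _)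
    rw [this, LinearEquiv.symm_apply_apply, ap_inv_ap]
  · intro y
    apply Subtype.ext
    change ρ b (e ⟨ρ b⁻¹ (ρ b (e.symm ⟨ρ b⁻¹ y.1, _⟩)), _⟩) = y.1
    have : (⟨ρ b⁻¹ (ρ b (e.symm ⟨ρ b⁻¹ y.1, inv_mem_of_tw ρ y.2⟩)), inv_mem_of_tw (hb := hb) ρ ⟨_, (e.symm _).2, rfl⟩⟩ : M) =
      e.symm ⟨ρ b⁻¹ y.1, inv_mem_of_tw ρ y.2⟩ := Subtype.ext (inv_ap_ap ρ b _)
    rw [this, LinearEquiv.apply_symm_apply, ap_inv_ap]

variable [Finite G] [Finite U]

theorem exists_inv [Fact p.Prime] {K B : Subgroup G} (hBK : B ≤ Subgroup.normalizer (K : Set G))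
    (hBp : IsPGroup p B) (M₀ : Submodule (SgT ρ K) U) [IsSimpleModule (SgT ρ K) M₀]
    (hiso : ∀ b (hb : b ∈ B), Nonempty (M₀ ≃ₗ[SgT ρ K] tw ρ b (hBK hb) M₀)) :
    ∃ M : Submodule (SgT ρ K) U, Nonempty (M₀ ≃ₗ[SgT ρ K] M) ∧ ∀ b ∈ B, ∀ m ∈ M, ρ b m ∈ M := by
  classical
  have hp : p.Prime := Fact.out
  have hexp : ∀ u : U, p • u = 0 := by
    intro u
    rw [← Nat.cast_smul_eq_nsmul (ZMod p), ZMod.natCast_self, zero_smul]
  have hcard := card_iso_submodules (R := SgT ρ K) M₀ hp hexp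
  let act : MulAction B {M : Submodule (SgT ρ K) U // Nonempty (M₀ ≃ₗ[SgT ρ K] M)} :=
    { smul := fun b M => ⟨tw ρ b.1 (hBK b.2) M.1, by
        obtain ⟨e₁⟩ := hiso b.1 b.2
        obtain ⟨e₂⟩ := tw_iso ρ (hBK b.2) M.2
        exact ⟨e₁.trans e₂⟩⟩
      one_smul := fun M => Subtype.ext (tw_one ρ M.1 (one_mem _))
      mul_smul := fun a b M => Subtype.ext (tw_tw ρ (hb := hBK a.2) (hc := hBK b.2) M.1).symm }
  have hfin : Finite {M : Submodule (SgT ρ K) U // Nonempty (M₀ ≃ₗ[SgT ρ K] M)} := inferInstance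
  have h1 := hBp.card_modEq_card_fixedPoints {M : Submodule (SgT ρ K) U // Nonempty (M₀ ≃ₗ[SgT ρ K] M)}
  have h2 := h1.symm.trans hcard
  have h3 : Nat.card (MulAction.fixedPoints B {M : Submodule (SgT ρ K) U // Nonempty (M₀ ≃ₗ[SgT ρ K] M)}) ≠ 0 := by
    intro h0
    rw [h0] at h2
    have := (Nat.modEq_iff_dvd' (Nat.zero_le 1)).1 h2
    exact hp.one_lt.ne' (Nat.dvd_one.1 this)
  rw [Nat.card_ne_zero] at h3
  obtain ⟨⟨⟨M, hM⟩, hMf⟩⟩ := h3.1
  refine ⟨M, hM, ?_⟩
  intro b hb m hm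
  have h4 : tw ρ b (hBK hb) M = M := congrArg Subtype.val (hMf ⟨b, hb⟩)
  have h5 : ρ b m ∈ tw ρ b (hBK hb) M := ⟨m, hm, rfl⟩
  rwa [h4] at h5

/-- **the configuration on a section is impossible** -/
theorem main_U [Fact p.Prime] {K A Q C : Subgroup G} (h : Cfg ρ K A Q C) (M₀ : Submodule (SgT ρ K) U)
    [IsSimpleModule (SgT ρ K) M₀] (hM₀ : ∃ x ∈ K, ∃ m ∈ M₀, ρ x m ≠ m) {a₀ : G} (ha₀ : a₀ ∈ A)
    (ha₀K : a₀ ∉ Subgroup.normalizer (K : Set G)) (hQC : ¬ Q ≤ C) : False := by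
  classical
  by_cases hBC : Q ⊓ Subgroup.normalizer (K : Set G) ≤ C
  · apply caseII ρ h _ hQC
    · intro b hb hbC
      exact (h.conj b (h.QA hb)).resolve_left (fun h' => hbC (hBC ⟨hb, h'⟩))
    · by_contra hcon
      push Not at hcon
      obtain ⟨x, hx, m, hm, hne⟩ := hM₀
      apply hne
      apply perfect_fix ρ h.perf _ x hx
      intro x hx y hy
      rw [← mul_ap, ← mul_ap, hcon x hx y hy]
  · obtain ⟨b₀, hb₀, hb₀C⟩ := SetLike.not_le_iff_exists.1 hBC
    by_cases hiso : ∀ b (hb : b ∈ Q ⊓ Subgroup.normalizer (K : Set G)),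
        Nonempty (M₀ ≃ₗ[SgT ρ K] tw ρ b hb.2 M₀)
    · have hBp : IsPGroup p ↥(Q ⊓ Subgroup.normalizer (K : Set G)) :=
        isPGroup_of_exp (fun a ha => h.exp a (h.QA ha.1))
      obtain ⟨M, ⟨e⟩, hMinv⟩ := exists_inv ρ inf_le_right hBp M₀ hiso
      have hMs : IsSimpleModule (SgT ρ K) M := IsSimpleModule.congr e.symm
      have hM : ∃ x ∈ K, ∃ m ∈ M, ρ x m ≠ m := by
        obtain ⟨x, hx, m, hm, hne⟩ := hM₀
        refine ⟨x, hx, e ⟨m, hm⟩, (e _).2, ?_⟩
        intro heq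
        apply hne
        have h1 : e (SgT.mk ρ (ρ x) (rho_mem ρ hx) • ⟨m, hm⟩) = e ⟨m, hm⟩ := by
          rw [map_smul]
          exact Subtype.ext heq
        exact congrArg Subtype.val (e.injective h1)
      exact beta1 ρ h M hM ha₀ ha₀K hMinv hb₀ hb₀C
    · push Not at hiso
      obtain ⟨b, hb, hn⟩ := hiso
      exact beta2 ρ h M₀ hM₀ hb (not_nonempty_iff.2 hn)

end Cfsg.Agent.H281.PGV
end
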